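import Cfsg.Agent.Lib.HalfNormalizer.Twin
import Cfsg.Agent.S0713

/-!
Quintuply transitive groups of degree `2 r + 3` or `3 r + 4`, `r` prime, contain the
alternating group (elements of order `r` and Frattini argument).
-/

set_option autoImplicit false

namespace CfsgLib.HalfNormalizer

open Equiv Equiv.Perm

variable {α : Type*} [Fintype α] [DecidableEq α] {r : ℕ}

/-- Two double transpositions with three common points give a three-cycle. -/
theorem alternating_of_double_transposition (G : Subgroup (Perm α))
    (h5 : MulAction.IsMultiplyPretransitive G α 5) (hcard : 5 ≤ Fintype.card α)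
    {x : Perm α} (hxG : x ∈ G) (hx2 : x * x = 1) (hx4 : x.support.card = 4) :
    alternatingGroup α ≤ G := by
  classical
  have hxx : ∀ y, x (x y) = y := fun y => by
    rw [← Equiv.Perm.mul_apply, hx2, Equiv.Perm.one_apply]
  obtain ⟨a, ha⟩ : x.support.Nonempty := Finset.card_pos.mp (by omega)
  rw [mem_support] at ha
  obtain ⟨c, hc, hca⟩ : ∃ c ∈ x.support, c ∉ ({a, x a} : Finset α) := by
    by_contra h
    push Not at h
    have := (Finset.card_le_card (fun y hy => h y hy : x.support ⊆ {a, x a})).trans Finset.card_le_two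
    omega
  simp only [Finset.mem_insert, Finset.mem_singleton, not_or] at hca
  rw [mem_support] at hc
  set b := x a with hb
  set d := x c with hd
  have hab : a ≠ b := Ne.symm ha
  have hac : a ≠ c := Ne.symm hca.1
  have hbc : b ≠ c := Ne.symm hca.2
  have had : a ≠ d := fun h => hbc (by rw [hb, h, hd, hxx])
  have hbd : b ≠ d := fun h => hca.1 (x.injective (h : x a = x c)).symm
  have hcd : c ≠ d := Ne.symm hc
  have hsupp : x.support = {a, b, c, d} := by
    symm
    apply Finset.eq_of_subset_of_card_le
    · intro y hy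
      simp only [Finset.mem_insert, Finset.mem_singleton] at hy
      rw [mem_support]
      rcases hy with rfl | rfl | rfl | rfl
      · exact ha
      · rw [hb, hxx]; exact Ne.symm ha
      · exact hc
      · rw [hd, hxx]; exact Ne.symm hc
    · rw [hx4, Finset.card_eq_four.mpr ⟨a, b, c, d, hab, hac, had, hbc, hbd, hcd, rfl⟩]
  have hxeq : x = swap a b * swap c d := by
    ext y
    rw [Equiv.Perm.mul_apply]
    by_cases hy : y ∈ x.support
    · rw [hsupp] at hy
      simp only [Finset.mem_insert, Finset.mem_singleton] at hy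
      rcases hy with rfl | rfl | rfl | rfl
      · rw [swap_apply_of_ne_of_ne hac had, swap_apply_left]
      · rw [swap_apply_of_ne_of_ne hbc hbd, swap_apply_right, hb, hxx]
      · rw [swap_apply_left, swap_apply_of_ne_of_ne had.symm hbd.symm]
      · rw [swap_apply_right, swap_apply_of_ne_of_ne hac.symm hbc.symm, hd, hxx]
    · have hy' : x y = y := notMem_support.mp hy
      rw [hsupp] at hy
      simp only [Finset.mem_insert, Finset.mem_singleton, not_or] at hy
      rw [hy', swap_apply_of_ne_of_ne hy.2.2.1 hy.2.2.2, swap_apply_of_ne_of_ne hy.1 hy.2.1]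
  obtain ⟨f, hf⟩ : ∃ f, f ∉ ({a, b, c, d} : Finset α) := by
    by_contra h
    push Not at h
    have := (Finset.card_le_card (fun y _ => h y : (Finset.univ : Finset α) ⊆ _)).trans
      Finset.card_le_four
    rw [Finset.card_univ] at this
    omega
  simp only [Finset.mem_insert, Finset.mem_singleton, not_or] at hf
  obtain ⟨hfa, hfb, hfc, hfd⟩ := hf
  have s1 := hab.symm
  have s2 := hac.symm
  have s3 := had.symm
  have s4 := hbc.symm
  have s5 := hbd.symm
  have s6 := hcd.symm
  have t1 := Ne.symm hfa
  have t2 := Ne.symm hfb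
  have t3 := Ne.symm hfc
  have t4 := Ne.symm hfd
  have e1 : Function.Injective ![a, b, c, d, f] := fun i j hij => by
    fin_cases i <;> fin_cases j <;> first | rfl | exact absurd hij (by assumption)
  have e2 : Function.Injective ![a, b, c, f, d] := fun i j hij => by
    fin_cases i <;> fin_cases j <;> first | rfl | exact absurd hij (by assumption)
  obtain ⟨⟨k, hkG⟩, hk⟩ := MulAction.exists_smul_eq G (⟨_, e1⟩ : Fin 5 ↪ α) ⟨_, e2⟩
  have hka : k a = a := DFunLike.congr_fun hk 0
  have hkb : k b = b := DFunLike.congr_fun hk 1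
  have hkc : k c = c := DFunLike.congr_fun hk 2
  have hkd : k d = f := DFunLike.congr_fun hk 3
  have hy : k * x * k⁻¹ = swap a b * swap c f := by
    rw [hxeq, show k * (swap a b * swap c d) * k⁻¹ = (k * swap a b * k⁻¹) * (k * swap c d * k⁻¹) by group]
    have hconj : ∀ u v : α, k * swap u v * k⁻¹ = swap (k u) (k v) := fun u v => by
      rw [Equiv.mul_swap_eq_swap_mul, mul_inv_cancel_right]
    rw [hconj, hconj, hka, hkb, hkc, hkd]
  have hcomm : Disjoint (swap a b) (swap c d) := fun y => by
    by_cases h : y = a ∨ y = b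
    · refine Or.inr (swap_apply_of_ne_of_ne ?_ ?_) <;> rcases h with rfl | rfl <;> assumption
    · push Not at h
      exact Or.inl (swap_apply_of_ne_of_ne h.1 h.2)
  have hprod : x * (k * x * k⁻¹) = swap c d * swap c f := by
    rw [hy, hxeq, hcomm.commute.eq, mul_assoc, ← mul_assoc (swap a b), swap_mul_self, one_mul]
  haveI : MulAction.IsMultiplyPretransitive G α 2 :=
    MulAction.isMultiplyPretransitive_of_le (n := 5) (by norm_num)
      (by rw [Nat.card_eq_fintype_card]; omega)
  exact alternatingGroup_le_of_isPreprimitive_of_isThreeCycle_mem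
    (MulAction.isPreprimitive_of_is_two_pretransitive inferInstance)
    (isThreeCycle_swap_mul_swap_same hcd (Ne.symm hfc) (Ne.symm hfd))
    (hprod ▸ mul_mem hxG (mul_mem (mul_mem hkG hxG) (inv_mem hkG)))

end CfsgLib.HalfNormalizer
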