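import Cfsg.Agent.Lib.HalfNormalizer.Alternating

/-!
The normalizer of a Sylow `r`-subgroup of the stabilizer of a set `F` whose complement is a union
of `m` orbits of prime size `r`.
-/

set_option autoImplicit false

namespace CfsgLib.HalfNormalizer

open Equiv Equiv.Perm

variable {α : Type*} [Fintype α] [DecidableEq α]

/-- The setwise stabilizer of `F` in `G`. -/
def fixSet (G : Subgroup (Perm α)) (F : Finset α) : Subgroup G where
  carrier := {g | ∀ x, (g : Perm α) x ∈ F ↔ x ∈ F}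
  one_mem' := fun _ => Iff.rfl
  mul_mem' := fun {_ h} hg hh x => (hg ((h : Perm α) x)).trans (hh x)
  inv_mem' := fun {g} hg x => by
    have := hg ((g : Perm α)⁻¹ x)
    rw [← Equiv.Perm.mul_apply, mul_inv_cancel, Equiv.Perm.one_apply] at this
    exact this.symm

/-- An element of the setwise stabilizer as a permutation. -/
def fixVal (G : Subgroup (Perm α)) (F : Finset α) : fixSet G F →* Perm α :=
  G.subtype.comp (fixSet G F).subtype

/-- The action of the setwise stabilizer on `F`. -/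
def fixRho (G : Subgroup (Perm α)) (F : Finset α) : fixSet G F →* Perm F where
  toFun u := (fixVal G F u).subtypePerm fun x => u.2 x
  map_one' := Equiv.ext fun _ => rfl
  map_mul' _ _ := Equiv.ext fun _ => rfl

theorem fixVal_injective (G : Subgroup (Perm α)) (F : Finset α) :
    Function.Injective (fixVal G F) := fun _ _ h => Subtype.ext (Subtype.ext h)

theorem fixVal_notMem {G : Subgroup (Perm α)} {F : Finset α} (u : fixSet G F) {x : α} (hx : x ∉ F) :
    fixVal G F u x ∉ F := fun h => hx ((u.2 x).mp h)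

theorem fixRho_apply {G : Subgroup (Perm α)} {F : Finset α} (u : fixSet G F) (x : F) :
    ((fixRho G F u x : F) : α) = fixVal G F u x := rfl

/-- The Sylow data. -/
structure Blocks (G : Subgroup (Perm α)) (F : Finset α) (r m : ℕ) where
  R : Subgroup (fixSet G F)
  fix : ∀ g ∈ R, fixRho G F g = 1
  isP : IsPGroup r R
  size : ∀ w, w ∉ F → (MulAction.orbit R w).ncard = r
  count : Fᶜ.card = m * r
  surj : ∀ σ, ∃ n ∈ Subgroup.normalizer (R : Set (fixSet G F)), fixRho G F n = σ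
  /-- no cycle of length `r` -/
  nocyc : ∀ g ∈ G, g.IsCycle → g.support.card ≠ r

namespace Blocks

variable {G : Subgroup (Perm α)} {F : Finset α} {r m : ℕ} [hr : Fact r.Prime] (S : Blocks G F r m)

local notation "val" => fixVal G F

/-- The orbit of a point. -/
noncomputable def O (w : α) : Finset α := (MulAction.orbit S.R w).toFinite.toFinset

omit hr in
theorem mem_O {w y : α} : y ∈ S.O w ↔ ∃ g ∈ S.R, val g w = y := by
  rw [O, Set.Finite.mem_toFinset]
  exact ⟨fun ⟨g, he⟩ => ⟨g, g.2, he⟩, fun ⟨g, hg, he⟩ => ⟨⟨g, hg⟩, he⟩⟩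

omit hr in
theorem self_mem (w : α) : w ∈ S.O w := S.mem_O.mpr ⟨1, one_mem _, rfl⟩

omit hr in
theorem card_O {w : α} (hw : w ∉ F) : (S.O w).card = r := by
  rw [O, ← Set.ncard_eq_toFinset_card, S.size w hw]

omit hr in
theorem fix_apply {g : fixSet G F} (hg : g ∈ S.R) {x : α} (hx : x ∈ F) : val g x = x := by
  rw [← fixRho_apply g ⟨x, hx⟩, S.fix g hg]
  rfl

omit hr in
theorem stable (w : α) {g : fixSet G F} (hg : g ∈ S.R) (y : α) :
    val g y ∈ S.O w ↔ y ∈ S.O w := by
  rw [mem_O, mem_O]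
  constructor
  · rintro ⟨h, hh, he⟩
    exact ⟨g⁻¹ * h, mul_mem (inv_mem hg) hh, by
      rw [map_mul, map_inv, Equiv.Perm.mul_apply, he, ← Equiv.Perm.mul_apply, inv_mul_cancel,
        Equiv.Perm.one_apply]⟩
  · rintro ⟨h, hh, rfl⟩
    exact ⟨g * h, mul_mem hg hh, by rw [map_mul, Equiv.Perm.mul_apply]⟩

omit hr in
theorem eq_of_mem {w y : α} (hy : y ∈ S.O w) : S.O y = S.O w := by
  obtain ⟨h, hh, rfl⟩ := S.mem_O.mp hy
  ext z
  rw [mem_O, mem_O]
  constructor
  · rintro ⟨g, hg, rfl⟩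
    exact ⟨g * h, mul_mem hg hh, by rw [map_mul, Equiv.Perm.mul_apply]⟩
  · rintro ⟨g, hg, rfl⟩
    exact ⟨g * h⁻¹, mul_mem hg (inv_mem hh), by
      rw [← Equiv.Perm.mul_apply, ← map_mul, inv_mul_cancel_right]⟩

omit hr in
theorem notMem_F {w y : α} (hw : w ∉ F) (hy : y ∈ S.O w) : y ∉ F := by
  obtain ⟨g, -, rfl⟩ := S.mem_O.mp hy
  exact fixVal_notMem g hw

/-- The restriction of `R` to an orbit. -/
noncomputable def res (w : α) : S.R →* Perm ↥(S.O w) where
  toFun g := (val g).subtypePerm fun y => S.stable w g.2 y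
  map_one' := Equiv.ext fun _ => rfl
  map_mul' _ _ := Equiv.ext fun _ => rfl

omit hr in
theorem res_apply (w : α) (g : S.R) (y : ↥(S.O w)) : ((S.res w g y : ↥(S.O w)) : α) = val g y := rfl

theorem card_res {w : α} (hw : w ∉ F) : Nat.card (S.res w).range ∣ r := by
  have hR : IsPGroup r (S.res w).range :=
    S.isP.of_surjective (S.res w).rangeRestrict (S.res w).rangeRestrict_surjective
  obtain ⟨k, hk⟩ := IsPGroup.iff_card.mp hR
  have hdvd : Nat.card (S.res w).range ∣ r.factorial := by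
    have := (S.res w).range.card_subgroup_dvd_card
    rwa [Nat.card_perm, Nat.card_eq_fintype_card (α := ↥(S.O w)), Fintype.card_coe,
      S.card_O hw] at this
  have hk1 : k ≤ 1 := by
    by_contra h
    refine CfsgLib.SmallGroups.not_sq_dvd_factorial (p := r) (dvd_trans ?_ hdvd)
    rw [hk, ← pow_two]
    exact pow_dvd_pow r (by omega)
  rw [hk]
  exact (pow_dvd_pow r hk1).trans (pow_one r).dvd

theorem pow_res_eq_one {w : α} (hw : w ∉ F) (g : S.R) : S.res w g ^ r = 1 := by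
  have h : (⟨S.res w g, g, rfl⟩ : (S.res w).range) ^ r = 1 :=
    orderOf_dvd_iff_pow_eq_one.mp ((orderOf_dvd_natCard _).trans (S.card_res hw))
  exact congrArg Subtype.val h

theorem pow_eq_one {g : fixSet G F} (hg : g ∈ S.R) : g ^ r = 1 := by
  apply fixVal_injective
  rw [map_pow, map_one]
  ext y
  by_cases hy : y ∈ F
  · exact pow_apply_eq_self_of_apply_eq_self (S.fix_apply hg hy) r
  · have h := congrArg Subtype.val
      (DFunLike.congr_fun (S.pow_res_eq_one hy ⟨g, hg⟩) ⟨y, S.self_mem y⟩)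
    rw [← map_pow, res_apply] at h
    rw [← map_pow]
    exact h

theorem restr {w : α} (hw : w ∉ F) {g : fixSet G F} (hg : g ∈ S.R) (hgw : val g w ≠ w)
    {h : fixSet G F} (hh : h ∈ S.R) : ∃ n : ℕ, ∀ y ∈ S.O w, val h y = val (g ^ n) y := by
  set f := S.res w with hf
  have hne : f ⟨g, hg⟩ ≠ 1 := fun e => by
    have h0 := DFunLike.congr_fun e (⟨w, S.self_mem w⟩ : ↥(S.O w))
    exact hgw (congrArg Subtype.val h0)
  have hord : orderOf (f ⟨g, hg⟩) = r := orderOf_eq_prime (S.pow_res_eq_one hw _) hne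
  have hzp : Subgroup.zpowers (f ⟨g, hg⟩) = f.range := by
    have hm0 : f ⟨g, hg⟩ ∈ f.range := MonoidHom.mem_range.mpr ⟨_, rfl⟩
    apply Subgroup.eq_of_le_of_card_ge (Subgroup.zpowers_le.mpr hm0)
    rw [Nat.card_zpowers, hord]
    exact Nat.le_of_dvd hr.out.pos (S.card_res hw)
  have hmem : f ⟨h, hh⟩ ∈ Subgroup.zpowers (f ⟨g, hg⟩) := by
    rw [hzp]; exact ⟨_, rfl⟩
  obtain ⟨n, hn⟩ := (Submonoid.mem_powers_iff _ _).mp (mem_powers_iff_mem_zpowers.mpr hmem)
  refine ⟨n, fun y hy => ?_⟩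
  rw [← map_pow] at hn
  exact (congrArg Subtype.val (DFunLike.congr_fun hn ⟨y, hy⟩)).symm

theorem free {g : fixSet G F} (hg : g ∈ S.R) {w : α} (hw : w ∉ F) (hgw : val g w = w) {y : α}
    (hy : y ∈ S.O w) : val g y = y := by
  by_contra hgy
  obtain ⟨k, hk, hkw⟩ := S.mem_O.mp hy
  obtain ⟨n, hn⟩ := S.restr (S.notMem_F hw hy) hg hgy hk
  rw [S.eq_of_mem hy] at hn
  have hfix : val (g ^ n) w = w := by
    rw [map_pow]; exact pow_apply_eq_self_of_apply_eq_self hgw n
  have hyw : y = w := by rw [← hkw, hn w (S.self_mem w), hfix]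
  exact hgy (by rw [hyw, hgw])

theorem moves {g : fixSet G F} (hg : g ∈ S.R) {w : α} (hw : w ∉ F) (hgw : val g w ≠ w) {y : α}
    (hy : y ∈ S.O w) : val g y ≠ y := fun he =>
  hgw (S.free hg (S.notMem_F hw hy) he (by rw [S.eq_of_mem hy]; exact S.self_mem w))

theorem eq_one_of_one_orbit {g : fixSet G F} (hg : g ∈ S.R) {w : α} (hw : w ∉ F)
    (h : ∀ y, y ∉ F → y ∉ S.O w → val g y = y) : g = 1 := by
  by_contra hg1
  have hgv : val g ≠ 1 := fun e => hg1 (fixVal_injective G F (e.trans (map_one _).symm))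
  have hord : orderOf (val g) = r :=
    orderOf_eq_prime (by rw [← map_pow, S.pow_eq_one hg, map_one]) hgv
  have hsub : (val g).support ⊆ S.O w := by
    intro y hy
    rw [mem_support] at hy
    by_contra hyO
    by_cases hyF : y ∈ F
    · exact hy (S.fix_apply hg hyF)
    · exact hy (h y hyF hyO)
  have hle := (Finset.card_le_card hsub).trans_eq (S.card_O hw)
  have hcyc : (val g).IsCycle :=
    isCycle_of_prime_order (hord ▸ hr.out) (by have := hr.out.pos; omega)
  exact S.nocyc _ (g : G).2 hcyc (hcyc.orderOf.symm.trans hord)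

theorem exists_move {w : α} (hw : w ∉ F) : ∃ g ∈ S.R, val g w ≠ w := by
  obtain ⟨y, hy, hyw⟩ := Finset.exists_mem_ne
    (show 1 < (S.O w).card by rw [S.card_O hw]; exact hr.out.one_lt) w
  obtain ⟨g, hg, rfl⟩ := S.mem_O.mp hy
  exact ⟨g, hg, hyw⟩

/-- The normalizer of `R`. -/
abbrev N : Subgroup (fixSet G F) := Subgroup.normalizer (S.R : Set (fixSet G F))

omit hr in
theorem conj_mem {n : fixSet G F} (hn : n ∈ S.N) {g : fixSet G F} (hg : g ∈ S.R) :
    n * g * n⁻¹ ∈ S.R := (hn g).mp hg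

omit hr in
theorem map_orbit {n : fixSet G F} (hn : n ∈ S.N) {w : α} (hw : w ∉ F) :
    (S.O w).image (val n) = S.O (val n w) := by
  refine Finset.eq_of_subset_of_card_le (fun y hy => ?_) ?_
  · obtain ⟨z, hz, rfl⟩ := Finset.mem_image.mp hy
    obtain ⟨g, hg, rfl⟩ := S.mem_O.mp hz
    refine S.mem_O.mpr ⟨n * g * n⁻¹, S.conj_mem hn hg, ?_⟩
    rw [← Equiv.Perm.mul_apply, ← map_mul, inv_mul_cancel_right, map_mul, Equiv.Perm.mul_apply]
  · rw [Finset.card_image_of_injective _ (val n).injective, S.card_O hw,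
      S.card_O (fixVal_notMem n hw)]

/-- The set of orbits outside `F`. -/
noncomputable def Ob : Finset (Finset α) := Fᶜ.image S.O

omit hr in
theorem mem_Ob {w : α} (hw : w ∉ F) : S.O w ∈ S.Ob :=
  Finset.mem_image.mpr ⟨w, Finset.mem_compl.mpr hw, rfl⟩

theorem card_Ob : S.Ob.card = m := by
  have h1 : Fᶜ.card = ∑ T ∈ S.Ob, (Fᶜ.filter fun y => S.O y = T).card :=
    Finset.card_eq_sum_card_image S.O Fᶜ
  have h2 : ∀ T ∈ S.Ob, (Fᶜ.filter fun y => S.O y = T).card = r := by
    intro T hT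
    obtain ⟨w, hw, rfl⟩ := Finset.mem_image.mp hT
    rw [Finset.mem_compl] at hw
    refine Eq.trans ?_ (S.card_O hw)
    congr 1
    ext y
    simp only [Finset.mem_filter, Finset.mem_compl]
    exact ⟨fun h => h.2 ▸ S.self_mem y, fun h => ⟨S.notMem_F hw h, S.eq_of_mem h⟩⟩
  rw [Finset.sum_congr rfl h2, Finset.sum_const, smul_eq_mul, S.count] at h1
  exact (Nat.eq_of_mul_eq_mul_right hr.out.pos h1.symm)

/-- Three points in pairwise different orbits are impossible with two orbits, etc. -/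
theorem card_le {ι : Type*} [Fintype ι] (f : ι → α) (hf : ∀ i, f i ∉ F)
    (hinj : ∀ i j, f j ∈ S.O (f i) → i = j) : Fintype.card ι ≤ m := by
  rw [← S.card_Ob, ← Finset.card_univ]
  refine Finset.card_le_card_of_injOn (fun i => S.O (f i)) (fun i _ => S.mem_Ob (hf i)) ?_
  intro i _ j _ h
  exact hinj i j (by rw [show S.O (f i) = S.O (f j) from h]; exact S.self_mem _)

theorem pow_fixes {n : fixSet G F} (hn : n ∈ S.N) {k : ℕ} (hk : m.factorial ∣ k) {w : α}
    (hw : w ∉ F) {y : α} (hy : y ∈ S.O w) : val (n ^ k) y ∈ S.O w := by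
  classical
  let π : Perm ↥S.Ob := Equiv.ofBijective
    (fun T => ⟨T.1.image (val n), by
      obtain ⟨v, hv, hT⟩ := Finset.mem_image.mp T.2
      rw [Finset.mem_compl] at hv
      rw [← hT, S.map_orbit hn hv]
      exact S.mem_Ob (fixVal_notMem n hv)⟩)
    (Finite.injective_iff_bijective.mp fun T T' h =>
      Subtype.ext (Finset.image_injective (val n).injective (congrArg Subtype.val h)))
  have hπ : ∀ (i : ℕ) (T : ↥S.Ob), ((π ^ i) T).1 = T.1.image (val (n ^ i)) := by
    intro i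
    induction i with
    | zero => intro T; simp
    | succ i ih =>
      intro T
      rw [pow_succ', Equiv.Perm.mul_apply]
      show ((π ^ i) T).1.image (val n) = _
      rw [ih, Finset.image_image, pow_succ' n, map_mul, Equiv.Perm.coe_mul]
  have hone : π ^ k = 1 := by
    obtain ⟨j, rfl⟩ := hk
    have h := pow_card_eq_one' (x := π)
    rw [Nat.card_perm, Nat.card_eq_fintype_card (α := ↥S.Ob), Fintype.card_coe, S.card_Ob] at h
    rw [pow_mul, h, one_pow]
  have h1 := hπ k ⟨S.O w, S.mem_Ob hw⟩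
  rw [hone, Equiv.Perm.one_apply] at h1
  have h2 : val (n ^ k) y ∈ (S.O w).image (val (n ^ k)) := Finset.mem_image_of_mem _ hy
  rwa [← h1] at h2

theorem cent {x g : fixSet G F} (hg : g ∈ S.R) (hxg : x * g = g * x) {w : α} (hw : w ∉ F)
    (hgw : val g w ≠ w) (hxO : ∀ y ∈ S.O w, val x y ∈ S.O w) {y : α} (hy : y ∈ S.O w) :
    val (x ^ r) y = y := by
  obtain ⟨k, hk, hkw⟩ := S.mem_O.mp (hxO w (S.self_mem w))
  obtain ⟨n, hn⟩ := S.restr hw hg hgw hk
  have hxy : ∀ y ∈ S.O w, val x y = val (g ^ n) y := by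
    intro y hy
    obtain ⟨l, hl, hly⟩ := S.mem_O.mp hy
    obtain ⟨i, hi⟩ := S.restr hw hg hgw hl
    rw [← hly, hi w (S.self_mem w), ← Equiv.Perm.mul_apply, ← map_mul,
      ((show Commute x g from hxg).pow_right i).eq, map_mul, Equiv.Perm.mul_apply, ← hkw,
      hn w (S.self_mem w), ← Equiv.Perm.mul_apply, ← Equiv.Perm.mul_apply, ← map_mul, ← map_mul,
      ← pow_add, ← pow_add, add_comm]
  have hpow : ∀ j : ℕ, ∀ y ∈ S.O w, val (x ^ j) y = val ((g ^ n) ^ j) y := by
    intro j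
    induction j with
    | zero => intro y _; rfl
    | succ j ih =>
      intro y hy
      rw [pow_succ, pow_succ, map_mul, map_mul, Equiv.Perm.mul_apply, Equiv.Perm.mul_apply,
        ← hxy y hy, ih _ (hxO y hy)]
  rw [hpow r y hy, ← pow_mul, mul_comm, pow_mul, S.pow_eq_one hg, one_pow, map_one]
  rfl

theorem normalizes {g : fixSet G F} (hg : g ∈ S.R) {w : α} (hw : w ∉ F) (hgw : val g w ≠ w)
    (hmin : ∀ g' ∈ S.R, g' ≠ 1 → (val g).support.card ≤ (val g').support.card)
    {x : fixSet G F} (hx : x ∈ S.N) (hxO : ∀ v, v ∉ F → ∀ y ∈ S.O v, val x y ∈ S.O v) :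
    ∃ n : ℕ, x * g * x⁻¹ = g ^ n := by
  obtain ⟨n, hn⟩ := S.restr hw hg hgw (S.conj_mem hx hg)
  refine ⟨n, ?_⟩
  by_contra hne
  set g' := x * g * x⁻¹ * (g ^ n)⁻¹ with hg'
  have hg'R : g' ∈ S.R := mul_mem (S.conj_mem hx hg) (inv_mem (pow_mem hg n))
  have hg'1 : g' ≠ 1 := fun e => hne (mul_inv_eq_one.mp e)
  have hinvfix : ∀ y, val g y = y → val (g ^ n)⁻¹ y = y := fun y hy => by
    have h : val (g ^ n) y = y := by
      rw [map_pow]; exact pow_apply_eq_self_of_apply_eq_self hy n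
    rw [map_inv, Equiv.Perm.inv_eq_iff_eq, h]
  have hsub : (val g').support ⊆ (val g).support \ S.O w := by
    intro y hy
    rw [mem_support] at hy
    rw [Finset.mem_sdiff, mem_support]
    refine ⟨fun hgy => hy ?_, fun hyO => hy ?_⟩
    · rw [hg', map_mul, Equiv.Perm.mul_apply, hinvfix y hgy, map_mul, map_mul, Equiv.Perm.mul_apply,
        Equiv.Perm.mul_apply]
      have hmem : val g (val x⁻¹ y) = val x⁻¹ y := by
        by_cases hyF : y ∈ F
        · exact S.fix_apply hg ((x⁻¹.2 y).mpr hyF)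
        · have hv : val x⁻¹ y ∉ F := fixVal_notMem _ hyF
          have h1 := hxO _ hv _ (S.self_mem _)
          rw [← Equiv.Perm.mul_apply, ← map_mul, mul_inv_cancel, map_one, Equiv.Perm.one_apply] at h1
          refine S.free hg hyF hgy ?_
          rw [S.eq_of_mem h1]
          exact S.self_mem _
      rw [hmem, ← Equiv.Perm.mul_apply, ← map_mul, mul_inv_cancel, map_one, Equiv.Perm.one_apply]
    · have hz : val (g ^ n)⁻¹ y ∈ S.O w := (S.stable w (inv_mem (pow_mem hg n)) y).mpr hyO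
      rw [hg', map_mul, Equiv.Perm.mul_apply, hn _ hz, ← Equiv.Perm.mul_apply, ← map_mul,
        mul_inv_cancel, map_one, Equiv.Perm.one_apply]
  have hlt : (val g').support.card < (val g).support.card := by
    refine Finset.card_lt_card (lt_of_le_of_lt (Finset.le_iff_subset.mpr hsub) ?_)
    exact Finset.sdiff_ssubset (fun y hy => mem_support.mpr (S.moves hg hw hgw hy))
      ⟨w, S.self_mem w⟩
  exact absurd (hmin g' hg'R hg'1) (not_le.mpr hlt)

omit hr in
theorem exists_outside (hm : 0 < m) (hr0 : 0 < r) (T : Blocks G F r m) : ∃ w, w ∉ F := by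
  have : 0 < Fᶜ.card := by rw [T.count]; exact Nat.mul_pos hm hr0
  obtain ⟨w, hw⟩ := Finset.card_pos.mp this
  exact ⟨w, Finset.mem_compl.mp hw⟩

omit hr S in
theorem support_subset {x : fixSet G F} (h : ∀ v, v ∉ F → val x v = v) : (val x).support ⊆ F :=
  fun y hy => by
    by_contra hyF
    exact (mem_support.mp hy) (h y hyF)

theorem exists_min (hm : 0 < m) : ∃ g ∈ S.R, ∃ w, w ∉ F ∧ val g w ≠ w ∧
    ∀ g' ∈ S.R, g' ≠ 1 → (val g).support.card ≤ (val g').support.card := by
  classical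
  obtain ⟨w₁, hw₁⟩ := exists_outside hm hr.out.pos S
  obtain ⟨g₁, hg₁, hgw₁⟩ := S.exists_move hw₁
  obtain ⟨g, hg, hmin⟩ := Finset.exists_min_image
    (Finset.univ.filter fun g => g ∈ S.R ∧ g ≠ 1) (fun g => (val g).support.card)
    ⟨g₁, Finset.mem_filter.mpr ⟨Finset.mem_univ _, hg₁, fun e => hgw₁ (by rw [e, map_one]; rfl)⟩⟩
  rw [Finset.mem_filter] at hg
  obtain ⟨w, hw⟩ : ∃ w, val g w ≠ w := by
    by_contra h
    push Not at h
    exact hg.2.2 (fixVal_injective G F (by rw [map_one]; exact Equiv.ext h))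
  exact ⟨g, hg.2.1, w, fun hwF => hw (S.fix_apply hg.2.1 hwF), hw, fun g' h1 h2 =>
    hmin g' (Finset.mem_filter.mpr ⟨Finset.mem_univ _, h1, h2⟩)⟩

end Blocks

end CfsgLib.HalfNormalizer
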