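import Cfsg.Agent.Lib.HalfNormalizer.Blocks
import Cfsg.Agent.S0713

/-!
Quintuply transitive groups of degree `2 r + 3` or `3 r + 4` contain the alternating group.
-/

set_option autoImplicit false

namespace CfsgLib.HalfNormalizer

open Equiv Equiv.Perm

variable {α : Type*} [Fintype α] [DecidableEq α] {G : Subgroup (Perm α)} {F : Finset α} {r : ℕ}
  [hr : Fact r.Prime]

local notation "val" => fixVal G F
local notation "rho" => fixRho G F

theorem Blocks.two_orbits (S : Blocks G F r 2) (hr5 : 5 ≤ r) (hF : F.card = 3)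
    (hprim : MulAction.IsPreprimitive G α) : alternatingGroup α ≤ G := by
  classical
  obtain ⟨g, hgR, w, hw, hgw, -⟩ := S.exists_min (by norm_num)
  have htwo : ∀ u v : α, u ∉ F → v ∉ F → u ∉ S.O w → v ∉ S.O w → v ∈ S.O u := by
    intro u v hu hv huw hvw
    by_contra h
    have h3 := S.card_le ![w, u, v] (fun i => by fin_cases i <;> assumption) (fun i j hij => by
      fin_cases i <;> fin_cases j <;> first
        | rfl
        | (exfalso; simp only at hij; first
            | exact huw hij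
            | exact hvw hij
            | exact h hij
            | exact huw (S.eq_of_mem hij ▸ S.self_mem _)
            | exact hvw (S.eq_of_mem hij ▸ S.self_mem _)
            | exact h (S.eq_of_mem hij ▸ S.self_mem _)))
    simp at h3
  have hgen : ∀ h ∈ S.R, ∃ n : ℕ, h = g ^ n := by
    intro h hh
    obtain ⟨n, hn⟩ := S.restr hw hgR hgw hh
    refine ⟨n, ?_⟩
    have hh' : h * (g ^ n)⁻¹ ∈ S.R := mul_mem hh (inv_mem (pow_mem hgR n))
    have hfix : ∀ y ∈ S.O w, val (h * (g ^ n)⁻¹) y = y := by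
      intro y hy
      have hz : val (g ^ n)⁻¹ y ∈ S.O w := (S.stable w (inv_mem (pow_mem hgR n)) y).mpr hy
      rw [map_mul, Equiv.Perm.mul_apply, hn _ hz, ← Equiv.Perm.mul_apply, ← map_mul, mul_inv_cancel,
        map_one, Equiv.Perm.one_apply]
    by_contra hne
    obtain ⟨v, hv⟩ : ∃ v, val (h * (g ^ n)⁻¹) v ≠ v := by
      by_contra hall
      push Not at hall
      exact hne (mul_inv_eq_one.mp (fixVal_injective G F (by rw [map_one]; exact Equiv.ext hall)))
    have hvF : v ∉ F := fun h' => hv (S.fix_apply hh' h')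
    have hvw : v ∉ S.O w := fun h' => hv (hfix v h')
    refine hne (mul_inv_eq_one.mp (S.eq_one_of_one_orbit hh' hvF fun y hy hyv => ?_))
    by_contra hyfix
    exact hyv (htwo v y hvF hy hvw (fun h' => hyfix (hfix y h')))
  have hall : ∀ v, v ∉ F → val g v ≠ v := by
    intro v hv hgv
    obtain ⟨h, hh, hhv⟩ := S.exists_move hv
    obtain ⟨n, rfl⟩ := hgen h hh
    exact hhv (by rw [map_pow]; exact pow_apply_eq_self_of_apply_eq_self hgv n)
  obtain ⟨a, b, c, hab, hac, hbc, hFe⟩ := Finset.card_eq_three.mp hF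
  let A : F := ⟨a, by simp [hFe]⟩
  let B : F := ⟨b, by simp [hFe]⟩
  let C : F := ⟨c, by simp [hFe]⟩
  obtain ⟨u, hu, hρu⟩ := S.surj (swap A B)
  obtain ⟨v, hv, hρv⟩ := S.surj (swap B C)
  obtain ⟨i, hi⟩ := hgen _ (S.conj_mem hu hgR)
  obtain ⟨j, hj⟩ := hgen _ (S.conj_mem hv hgR)
  set z := (u * v)⁻¹ * (v * u) with hz
  have hzN : z ∈ S.N := mul_mem (inv_mem (mul_mem hu hv)) (mul_mem hv hu)
  have hzg : z * g = g * z := by
    have h1 : v * u * g = g ^ (i * j) * (v * u) := by
      calc v * u * g = v * (u * g * u⁻¹) * u := by group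
        _ = v * g ^ i * v⁻¹ * (v * u) := by rw [hi]; group
        _ = (v * g * v⁻¹) ^ i * (v * u) := by rw [conj_pow]
        _ = _ := by rw [hj, ← pow_mul, mul_comm j i]
    have h2 : u * v * g = g ^ (i * j) * (u * v) := by
      calc u * v * g = u * (v * g * v⁻¹) * v := by group
        _ = u * g ^ j * u⁻¹ * (u * v) := by rw [hj]; group
        _ = (u * g * u⁻¹) ^ j * (u * v) := by rw [conj_pow]
        _ = _ := by rw [hi, ← pow_mul]
    have h3 : (u * v)⁻¹ * g ^ (i * j) = g * (u * v)⁻¹ := by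
      rw [eq_mul_inv_iff_mul_eq, mul_assoc, ← h2, inv_mul_cancel_left]
    rw [hz, mul_assoc, h1, ← mul_assoc, h3, mul_assoc]
  set z' := z ^ (2 * r) with hz'
  have hout : ∀ t, t ∉ F → val z' t = t := fun t ht => by
    rw [hz', pow_mul]
    refine S.cent hgR ((show Commute z g from hzg).pow_left 2).eq ht (hall t ht)
      (fun y hy => S.pow_fixes hzN (by rfl) ht hy) (S.self_mem t)
  set σ := (swap A B * swap B C)⁻¹ * (swap B C * swap A B) with hσ
  have hρz : rho z = σ := by
    rw [hz, map_mul, map_inv, map_mul, map_mul, hρu, hρv]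
  have hσ3 : σ ^ 3 = 1 := by
    have h3 : ∀ t s : Perm (Fin 3), ((t * s)⁻¹ * (s * t)) ^ 3 = 1 := by decide +kernel
    let E := (Fintype.equivFinOfCardEq (α := F) (by rw [Fintype.card_coe, hF])).permCongrHom
    apply E.injective
    rw [map_pow, hσ, map_mul, map_inv, map_mul, map_mul, map_one]
    exact h3 _ _
  have hσne : σ ≠ 1 := by
    intro h
    rw [hσ, inv_mul_eq_one] at h
    have := DFunLike.congr_fun h B
    simp [A, B, C, swap_apply_of_ne_of_ne, Subtype.ext_iff, hab, hac, hbc, hab.symm, hac.symm,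
      hbc.symm] at this
  have hne : val z' ≠ 1 := by
    intro e
    apply hσne
    have h1 : σ ^ (2 * r) = 1 := by
      rw [← hρz, ← map_pow, ← hz', show z' = 1 from fixVal_injective G F (e.trans (map_one _).symm),
        map_one]
    have hco : Nat.Coprime (2 * r) 3 := by
      refine Nat.Coprime.mul_left (by norm_num) ?_
      rw [hr.out.coprime_iff_not_dvd]
      exact fun h => absurd (Nat.le_of_dvd (by norm_num) h) (by omega)
    exact orderOf_eq_one_iff.mp (Nat.eq_one_of_dvd_coprimes hco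
      (orderOf_dvd_of_pow_eq_one h1) (orderOf_dvd_of_pow_eq_one hσ3))
  have hle := (Finset.card_le_card (Blocks.support_subset hout)).trans_eq hF
  have h2 := two_le_card_support_of_ne_one hne
  rcases (show (val z').support.card = 2 ∨ (val z').support.card = 3 by omega) with h | h
  · have htop := subgroup_eq_top_of_isPreprimitive_of_isSwap_mem hprim _
      (card_support_eq_two.mp h) (z' : G).2
    exact htop ▸ le_top
  · exact alternatingGroup_le_of_isPreprimitive_of_isThreeCycle_mem hprim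
      (card_support_eq_three_iff.mp h) (z' : G).2

omit hr in
/-- In a finite field, of two elements of two-power order one is a power of the other. -/
theorem exists_pow_of_two_power {K : Type*} [Field K] (a b : K) {k l : ℕ} (ha : a ^ 2 ^ k = 1)
    (hb : b ^ 2 ^ l = 1) : (∃ j, a = b ^ j) ∨ ∃ j, b = a ^ j := by
  have key : ∀ a b : K, (∃ k, a ^ 2 ^ k = 1) → (∃ l, b ^ 2 ^ l = 1) → orderOf a ≤ orderOf b →
      ∃ j, a = b ^ j := by
    rintro a b ⟨k, ha⟩ ⟨l, hb⟩ hle
    obtain ⟨i, -, hi⟩ := (Nat.dvd_prime_pow Nat.prime_two).mp (orderOf_dvd_of_pow_eq_one ha)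
    obtain ⟨j, -, hj⟩ := (Nat.dvd_prime_pow Nat.prime_two).mp (orderOf_dvd_of_pow_eq_one hb)
    rw [hi, hj, Nat.pow_le_pow_iff_right (by norm_num)] at hle
    haveI : NeZero (orderOf b) := ⟨by rw [hj]; exact pow_ne_zero j (by norm_num)⟩
    have h1 : a ^ orderOf b = 1 := orderOf_dvd_iff_pow_eq_one.mp (by
      rw [hi, hj]; exact pow_dvd_pow 2 hle)
    obtain ⟨m, -, hm⟩ := (IsPrimitiveRoot.orderOf b).eq_pow_of_pow_eq_one h1
    exact ⟨m, hm.symm⟩
  rcases le_total (orderOf a) (orderOf b) with h | h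
  · exact Or.inl (key a b ⟨k, ha⟩ ⟨l, hb⟩ h)
  · exact Or.inr (key b a ⟨l, hb⟩ ⟨k, ha⟩ h)

/-- An element of `Perm F` inducing a fixed-point-free involution, centralizing `g`. -/
theorem Blocks.exists_centralizing (S : Blocks G F r 3) (hr5 : 5 ≤ r) (hF : F.card = 4)
    {g : fixSet G F} (hg : g ∈ S.R) {w : α} (hw : w ∉ F) (hgw : val g w ≠ w)
    (hmin : ∀ g' ∈ S.R, g' ≠ 1 → (val g).support.card ≤ (val g').support.card) :
    ∃ x ∈ S.N, (∀ v, v ∉ F → ∀ y ∈ S.O v, val x y ∈ S.O v) ∧ x * g = g * x ∧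
      rho x * rho x = 1 ∧ ∀ y : F, rho x y ≠ y := by
  classical
  obtain ⟨a, b, c, d, hab, hac, had, hbc, hbd, hcd, hFe⟩ := Finset.card_eq_four.mp hF
  let A : F := ⟨a, by simp [hFe]⟩
  let B : F := ⟨b, by simp [hFe]⟩
  let C : F := ⟨c, by simp [hFe]⟩
  let D : F := ⟨d, by simp [hFe]⟩
  have hAB : A ≠ B := fun h => hab (congrArg Subtype.val h)
  have hAC : A ≠ C := fun h => hac (congrArg Subtype.val h)
  have hAD : A ≠ D := fun h => had (congrArg Subtype.val h)
  have hBC : B ≠ C := fun h => hbc (congrArg Subtype.val h)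
  have hBD : B ≠ D := fun h => hbd (congrArg Subtype.val h)
  have hCD : C ≠ D := fun h => hcd (congrArg Subtype.val h)
  have hexF : ∀ y : F, y = A ∨ y = B ∨ y = C ∨ y = D := fun y => by
    have := y.2
    simp only [hFe, Finset.mem_insert, Finset.mem_singleton] at this
    simp only [A, B, C, D, Subtype.ext_iff]
    exact this
  set σ₁ : Perm F := swap A B * swap B C * swap C D with hσ₁
  set σ₂ : Perm F := swap A B * swap B D * swap D C with hσ₂
  set d₁ : Perm F := swap A C * swap B D with hd₁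
  set d₂ : Perm F := swap A D * swap B C with hd₂
  have hs1 : σ₁ ^ 2 = d₁ := by
    ext y
    rcases hexF y with rfl | rfl | rfl | rfl <;>
      simp [hσ₁, hd₁, pow_two, swap_apply_of_ne_of_ne, hAB, hAC, hAD, hBC, hBD, hCD, hAB.symm,
        hAC.symm, hAD.symm, hBC.symm, hBD.symm, hCD.symm]
  have hs2 : σ₂ ^ 2 = d₂ := by
    ext y
    rcases hexF y with rfl | rfl | rfl | rfl <;>
      simp [hσ₂, hd₂, pow_two, swap_apply_of_ne_of_ne, hAB, hAC, hAD, hBC, hBD, hCD, hAB.symm,
        hAC.symm, hAD.symm, hBC.symm, hBD.symm, hCD.symm]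
  have hd₁2 : d₁ * d₁ = 1 := by
    ext y
    rcases hexF y with rfl | rfl | rfl | rfl <;>
      simp [hd₁, swap_apply_of_ne_of_ne, hAB, hAC, hAD, hBC, hBD, hCD, hAB.symm,
        hAC.symm, hAD.symm, hBC.symm, hBD.symm, hCD.symm]
  have hd₂2 : d₂ * d₂ = 1 := by
    ext y
    rcases hexF y with rfl | rfl | rfl | rfl <;>
      simp [hd₂, swap_apply_of_ne_of_ne, hAB, hAC, hAD, hBC, hBD, hCD, hAB.symm,
        hAC.symm, hAD.symm, hBC.symm, hBD.symm, hCD.symm]
  have hcomm : d₁ * d₂ = d₂ * d₁ := by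
    ext y
    rcases hexF y with rfl | rfl | rfl | rfl <;>
      simp [hd₁, hd₂, swap_apply_of_ne_of_ne, hAB, hAC, hAD, hBC, hBD, hCD, hAB.symm,
        hAC.symm, hAD.symm, hBC.symm, hBD.symm, hCD.symm]
  have hne1 : ∀ y : F, d₁ y ≠ y := fun y => by
    rcases hexF y with rfl | rfl | rfl | rfl <;>
      simp [hd₁, swap_apply_of_ne_of_ne, hAB, hAC, hAD, hBC, hBD, hCD, hAB.symm,
        hAC.symm, hAD.symm, hBC.symm, hBD.symm, hCD.symm]
  have hne2 : ∀ y : F, d₂ y ≠ y := fun y => by
    rcases hexF y with rfl | rfl | rfl | rfl <;>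
      simp [hd₂, swap_apply_of_ne_of_ne, hAB, hAC, hAD, hBC, hBD, hCD, hAB.symm,
        hAC.symm, hAD.symm, hBC.symm, hBD.symm, hCD.symm]
  have hne12 : ∀ y : F, d₁ y ≠ d₂ y := fun y => by
    rcases hexF y with rfl | rfl | rfl | rfl <;>
      simp [hd₁, hd₂, swap_apply_of_ne_of_ne, hAB, hAC, hAD, hBC, hBD, hCD, hAB.symm,
        hAC.symm, hAD.symm, hBC.symm, hBD.symm, hCD.symm]
  let K : Subgroup (fixSet G F) :=
    { carrier := {x | x ∈ S.N ∧ ∀ v, v ∉ F → ∀ y ∈ S.O v, val x y ∈ S.O v}
      one_mem' := ⟨one_mem _, fun v _ y hy => by rw [map_one]; exact hy⟩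
      mul_mem' := fun {x y} hx hy => ⟨mul_mem hx.1 hy.1, fun v hv z hz => by
        rw [map_mul, Equiv.Perm.mul_apply]; exact hx.2 v hv _ (hy.2 v hv z hz)⟩
      inv_mem' := fun {x} hx => ⟨inv_mem hx.1, fun v hv z hz => by
        have hv' : val x⁻¹ z ∉ F := fixVal_notMem _ (S.notMem_F hv hz)
        have h := hx.2 _ hv' _ (S.self_mem _)
        rw [← Equiv.Perm.mul_apply, ← map_mul, mul_inv_cancel, map_one, Equiv.Perm.one_apply] at h
        rw [← S.eq_of_mem hz, S.eq_of_mem h]
        exact S.self_mem _⟩ }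
  have hsix : ∀ σ : Perm F, σ ^ 4 = 1 → ∃ x : K, rho x = σ ^ 2 := by
    intro σ hσ4
    obtain ⟨n, hn, hρn⟩ := S.surj σ
    refine ⟨⟨n ^ 6, pow_mem hn 6, fun v hv y hy => S.pow_fixes hn (by rfl) hv hy⟩, ?_⟩
    show rho (n ^ 6) = _
    rw [map_pow, hρn, show 6 = 4 + 2 from rfl, pow_add, hσ4, one_mul]
  obtain ⟨x₁, hx₁⟩ := hsix σ₁ (by rw [show 4 = 2 * 2 from rfl, pow_mul, hs1, pow_two, hd₁2])
  obtain ⟨x₂, hx₂⟩ := hsix σ₂ (by rw [show 4 = 2 * 2 from rfl, pow_mul, hs2, pow_two, hd₂2])
  rw [hs1] at hx₁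
  rw [hs2] at hx₂
  have hg1 : g ≠ 1 := fun e => hgw (by rw [e, map_one]; rfl)
  have hgord : orderOf g = r := orderOf_eq_prime (S.pow_eq_one hg) hg1
  choose μ hμ using fun x : K => S.normalizes hg hw hgw hmin x.2.1 x.2.2
  have hμuniq : ∀ (x : K) (n : ℕ), (x : fixSet G F) * g * (x : fixSet G F)⁻¹ = g ^ n →
      (μ x : ZMod r) = n := fun x n hn => by
    rw [ZMod.natCast_eq_natCast_iff, ← hgord]
    exact pow_eq_pow_iff_modEq.mp ((hμ x).symm.trans hn)
  let χ : K →* ZMod r :=
    { toFun := fun x => (μ x : ZMod r)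
      map_one' := (hμuniq 1 1 (by simp)).trans Nat.cast_one
      map_mul' := fun x y => by
        rw [hμuniq (x * y) (μ x * μ y) ?_, Nat.cast_mul]
        calc ((x * y : K) : fixSet G F) * g * ((x * y : K) : fixSet G F)⁻¹
            = (x : fixSet G F) * ((y : fixSet G F) * g * (y : fixSet G F)⁻¹) *
                (x : fixSet G F)⁻¹ := by
              rw [Subgroup.coe_mul]; group
          _ = _ := by rw [hμ y, ← conj_pow, hμ x, ← pow_mul] }
  let ρK : K →* Perm F := (fixRho G F).comp K.subtype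
  have htwo : ∀ x : K, ρK x * ρK x = 1 → ∃ y : K, ρK y = ρK x ∧ ∃ k, χ y ^ (2 ^ k) = 1 := by
    intro x hx
    obtain ⟨k, l, hl, hkl⟩ := Nat.exists_eq_two_pow_mul_odd (Nat.card_pos (α := K)).ne'
    refine ⟨x ^ l, ?_, k, ?_⟩
    · obtain ⟨i, rfl⟩ := hl
      rw [map_pow, pow_succ, pow_mul, pow_two, hx, one_pow, one_mul]
    · rw [← map_pow, ← pow_mul, mul_comm l, ← hkl, pow_card_eq_one', map_one]
  obtain ⟨y₁, hy₁, k₁, hk₁⟩ := htwo x₁ (by show rho x₁ * rho x₁ = 1; rw [hx₁]; exact hd₁2)
  obtain ⟨y₂, hy₂, k₂, hk₂⟩ := htwo x₂ (by show rho x₂ * rho x₂ = 1; rw [hx₂]; exact hd₂2)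
  replace hy₁ : ρK y₁ = d₁ := hy₁.trans hx₁
  replace hy₂ : ρK y₂ = d₂ := hy₂.trans hx₂
  have key : ∀ (e e' : Perm F) (j : ℕ), e * e = 1 → e' * e' = 1 → e * e' = e' * e →
      (∀ y, e' y ≠ y) → (∀ y, e (e' y) ≠ y) →
      (e ^ j * e'⁻¹) * (e ^ j * e'⁻¹) = 1 ∧ ∀ y, (e ^ j * e'⁻¹) y ≠ y := by
    intro e e' j he he' hc h1 h2
    have hinv' : e'⁻¹ = e' := inv_eq_of_mul_eq_one_right he'
    rcases Nat.even_or_odd j with ⟨i, rfl⟩ | ⟨i, rfl⟩
    · rw [← two_mul, pow_mul, pow_two, he, one_pow, one_mul, hinv']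
      exact ⟨he', h1⟩
    · rw [pow_succ, pow_mul, pow_two, he, one_pow, one_mul, hinv']
      refine ⟨?_, h2⟩
      rw [mul_assoc, ← mul_assoc e', ← hc, mul_assoc e e' e', he', mul_one, he]
  have hmk : ∀ (u v : K) (j : ℕ) (e e' : Perm F), ρK u = e → ρK v = e' → e * e = 1 → e' * e' = 1 →
      e * e' = e' * e → (∀ y, e' y ≠ y) → (∀ y, e (e' y) ≠ y) → χ v = χ u ^ j →
      ∃ x : K, χ x = 1 ∧ ρK x * ρK x = 1 ∧ ∀ y : F, ρK x y ≠ y := by
    intro u v j e e' hu hv he he' hc h1 h2 hj
    refine ⟨u ^ j * v⁻¹, ?_, ?_⟩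
    · rw [map_mul, map_pow, ← hj, ← map_mul, mul_inv_cancel, map_one]
    rw [map_mul, map_pow, map_inv, hu, hv]
    exact key e e' j he he' hc h1 h2
  obtain ⟨x, hxχ, hxinv, hxmove⟩ :
      ∃ x : K, χ x = 1 ∧ ρK x * ρK x = 1 ∧ ∀ y : F, ρK x y ≠ y := by
    rcases exists_pow_of_two_power (χ y₁) (χ y₂) hk₁ hk₂ with ⟨j, hj⟩ | ⟨j, hj⟩
    · refine hmk y₂ y₁ j d₂ d₁ hy₂ hy₁ hd₂2 hd₁2 hcomm.symm hne1 (fun y h => hne12 y ?_) hj
      have := congrArg d₂ h
      rw [← Equiv.Perm.mul_apply, hd₂2, Equiv.Perm.one_apply] at this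
      exact this
    · refine hmk y₁ y₂ j d₁ d₂ hy₁ hy₂ hd₁2 hd₂2 hcomm hne2 (fun y h => hne12 y ?_) hj
      have := congrArg d₁ h
      rw [← Equiv.Perm.mul_apply, hd₁2, Equiv.Perm.one_apply] at this
      exact this.symm
  refine ⟨x, x.2.1, x.2.2, ?_, hxinv, hxmove⟩
  have h1 : g ^ μ x = g ^ 1 := pow_eq_pow_iff_modEq.mpr (by
    rw [hgord, ← ZMod.natCast_eq_natCast_iff, Nat.cast_one]
    exact hxχ)
  have h2 := hμ x
  rw [h1, pow_one, mul_inv_eq_iff_eq_mul] at h2
  exact h2

theorem Blocks.three_orbits (S : Blocks G F r 3) (hr5 : 5 ≤ r) (hF : F.card = 4)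
    (h5 : MulAction.IsMultiplyPretransitive G α 5) (hcard : 5 ≤ Fintype.card α) :
    alternatingGroup α ≤ G := by
  classical
  obtain ⟨g, hgR, w, hw, hgw, hmin⟩ := S.exists_min (by norm_num)
  have hg1 : g ≠ 1 := fun e => hgw (by rw [e, map_one]; rfl)
  obtain ⟨x, hxN, hxO, hxg, hxinv, hxmove⟩ := S.exists_centralizing hr5 hF hgR hw hgw hmin
  set x₀ := x ^ r with hx₀
  have hx₀N : x₀ ∈ S.N := pow_mem hxN r
  have hx₀O : ∀ v, v ∉ F → ∀ y ∈ S.O v, val x₀ y ∈ S.O v := by
    intro v hv
    rw [hx₀]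
    have : ∀ k : ℕ, ∀ y ∈ S.O v, val (x ^ k) y ∈ S.O v := by
      intro k
      induction k with
      | zero => intro y hy; rw [pow_zero, map_one]; exact hy
      | succ k ih => intro y hy; rw [pow_succ', map_mul, Equiv.Perm.mul_apply]; exact hxO v hv _ (ih y hy)
    exact this r
  have hx₀fix : ∀ v, v ∉ F → val g v ≠ v → val x₀ v = v := fun v hv hgv =>
    S.cent hgR hxg hv hgv (hxO v hv) (S.self_mem v)
  obtain ⟨i, hi⟩ := hr.out.odd_of_ne_two (by omega)
  have hρpow : ∀ u : fixSet G F, rho u * rho u = 1 → rho (u ^ r) = rho u := fun u hu => by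
    rw [map_pow, hi, pow_succ, pow_mul, pow_two, hu, one_pow, one_mul]
  have hρx₀ : rho x₀ = rho x := hρpow x hxinv
  have hfin : ∀ v, v ∉ F → val (x₀ ^ r) v = v := by
    intro v hv
    by_cases hgv : val g v = v
    swap
    · rw [map_pow]; exact pow_apply_eq_self_of_apply_eq_self (hx₀fix v hv hgv) r
    obtain ⟨h, hh, hhv⟩ := S.exists_move hv
    obtain ⟨n, hn⟩ := S.restr hw hgR hgw hh
    set h' := h * (g ^ n)⁻¹ with hh'
    have hh'R : h' ∈ S.R := mul_mem hh (inv_mem (pow_mem hgR n))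
    have hh'w : ∀ y ∈ S.O w, val h' y = y := by
      intro y hy
      have hz : val (g ^ n)⁻¹ y ∈ S.O w := (S.stable w (inv_mem (pow_mem hgR n)) y).mpr hy
      rw [hh', map_mul, Equiv.Perm.mul_apply, hn _ hz, ← Equiv.Perm.mul_apply, ← map_mul,
        mul_inv_cancel, map_one, Equiv.Perm.one_apply]
    have hh'v : val h' v ≠ v := by
      have hgnv : val (g ^ n) v = v := by
        rw [map_pow]; exact pow_apply_eq_self_of_apply_eq_self hgv n
      have hgnv' : val (g ^ n)⁻¹ v = v := by rw [map_inv, Equiv.Perm.inv_eq_iff_eq, hgnv]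
      rw [hh', map_mul, Equiv.Perm.mul_apply, hgnv']
      exact hhv
    -- orbits moved by `g`, or the orbit of `v`
    have hkey : ∀ s, s ∉ F → s ∉ S.O v → val x₀ s = s ∨ val h' s = s := by
      intro s hs hsv
      by_cases hgs : val g s = s
      swap
      · exact Or.inl (hx₀fix s hs hgs)
      refine Or.inr (hh'w s ?_)
      by_contra hsw
      obtain ⟨t, ht, htw, hgt⟩ : ∃ t, t ∉ F ∧ t ∉ S.O w ∧ val g t ≠ t := by
        by_contra hc
        push Not at hc
        exact hg1 (S.eq_one_of_one_orbit hgR hw hc)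
      have hvw : v ∉ S.O w := fun h => S.moves hgR hw hgw h hgv
      have htv : t ∉ S.O v := fun h => hgt (S.free hgR hv hgv h)
      have hts : t ∉ S.O s := fun h => hgt (S.free hgR hs hgs h)
      have h4 := S.card_le ![w, t, v, s] (fun k => by fin_cases k <;> assumption) (fun k l hkl => by
        fin_cases k <;> fin_cases l <;> first
          | rfl
          | (exfalso; simp only at hkl; first
              | exact htw hkl
              | exact hvw hkl
              | exact hsw hkl
              | exact htv hkl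
              | exact hts hkl
              | exact hsv hkl
              | exact htw (S.eq_of_mem hkl ▸ S.self_mem _)
              | exact hvw (S.eq_of_mem hkl ▸ S.self_mem _)
              | exact hsw (S.eq_of_mem hkl ▸ S.self_mem _)
              | exact htv (S.eq_of_mem hkl ▸ S.self_mem _)
              | exact hts (S.eq_of_mem hkl ▸ S.self_mem _)
              | exact hsv (S.eq_of_mem hkl ▸ S.self_mem _)))
      simp at h4
    have hcomm' : x₀ * h' = h' * x₀ := by
      have hk' : x₀ * h' * x₀⁻¹ * h'⁻¹ ∈ S.R :=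
        mul_mem (S.conj_mem hx₀N hh'R) (inv_mem hh'R)
      refine mul_inv_eq_iff_eq_mul.mp (mul_inv_eq_one.mp (S.eq_one_of_one_orbit hk' hv
        fun y hy hyv => ?_))
      set z := val h'⁻¹ y with hz
      have hzy' : z ∈ S.O y := (S.stable y (inv_mem hh'R) y).mpr (S.self_mem y)
      have hzF : z ∉ F := S.notMem_F hy hzy'
      have hzv : z ∉ S.O v := fun h => hyv (by
        rw [← S.eq_of_mem h, S.eq_of_mem hzy']; exact S.self_mem y)
      have hh'z : val h' z = y := by
        rw [hz, ← Equiv.Perm.mul_apply, ← map_mul, mul_inv_cancel, map_one, Equiv.Perm.one_apply]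
      rw [map_mul, map_mul, map_mul, Equiv.Perm.mul_apply, Equiv.Perm.mul_apply,
        Equiv.Perm.mul_apply, ← hz]
      rcases hkey z hzF hzv with h1 | h1
      · have h1' : val x₀⁻¹ z = z := by rw [map_inv, Equiv.Perm.inv_eq_iff_eq, h1]
        rw [h1', hh'z]
        rcases hkey y hy hyv with h2 | h2
        · exact h2
        · have : z = y := (val h').injective (hh'z.trans h2.symm)
          rw [← this]; exact h1
      · have hzy : z = y := h1.symm.trans hh'z
        have hinvO : val x₀⁻¹ y ∈ S.O y := by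
          have hv' : val x₀⁻¹ y ∉ F := fixVal_notMem _ hy
          have h := hx₀O _ hv' _ (S.self_mem _)
          rw [← Equiv.Perm.mul_apply, ← map_mul, mul_inv_cancel, map_one, Equiv.Perm.one_apply] at h
          rw [S.eq_of_mem h]
          exact S.self_mem _
        rw [hzy, S.free hh'R hy (hzy ▸ h1) hinvO, ← Equiv.Perm.mul_apply, ← map_mul, mul_inv_cancel,
          map_one, Equiv.Perm.one_apply]
    exact S.cent hh'R hcomm' hv hh'v (hx₀O v hv) (S.self_mem v)
  set X := val (x₀ ^ r) with hX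
  have hρX : rho (x₀ ^ r) = rho x := (hρpow x₀ (by rw [hρx₀]; exact hxinv)).trans hρx₀
  have hXsupp : X.support = F := by
    refine Finset.Subset.antisymm (Blocks.support_subset hfin) fun y hy => mem_support.mpr fun h => ?_
    apply hxmove ⟨y, hy⟩
    rw [← hρX]
    exact Subtype.ext h
  have hX2 : X * X = 1 := by
    ext y
    rw [Equiv.Perm.mul_apply, Equiv.Perm.one_apply]
    by_cases hy : y ∈ F
    · have h1 : X (X y) = (((rho (x₀ ^ r) * rho (x₀ ^ r)) ⟨y, hy⟩ : F) : α) := rfl
      rw [h1, hρX, hxinv, Equiv.Perm.one_apply]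
    · rw [hfin y hy, hfin y hy]
  exact alternating_of_double_transposition G h5 hcard ((x₀ ^ r : fixSet G F) : G).2 hX2
    (show X.support.card = 4 by rw [hXsupp, hF])

/-- A quintuply transitive group of degree `2 r + 3` or `3 r + 4` contains the alternating group. -/
theorem alternating_of_prime_blocks (G : Subgroup (Perm α)) {m : ℕ}
    (hm : m = 2 ∨ m = 3) (hr5 : 5 ≤ r) (hcard : Fintype.card α = m * r + (m + 1))
    (h5 : MulAction.IsMultiplyPretransitive G α 5) :
    alternatingGroup α ≤ G := by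
  classical
  by_contra hno
  have hmr : 10 ≤ m * r := by
    rcases hm with rfl | rfl <;> omega
  have hcardα : 5 ≤ Fintype.card α := by omega
  haveI := h5
  have hk : ∀ k ≤ 5, MulAction.IsMultiplyPretransitive G α k := fun k hk =>
    MulAction.isMultiplyPretransitive_of_le (n := 5) hk (by rw [Nat.card_eq_fintype_card]; omega)
  have hprim : MulAction.IsPreprimitive G α :=
    MulAction.isPreprimitive_of_is_two_pretransitive (hk 2 (by norm_num))
  obtain ⟨F, -, hF⟩ := Finset.exists_subset_card_eq (s := (Finset.univ : Finset α)) (n := m + 1)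
    (by rw [Finset.card_univ]; omega)
  have hFcard : Fintype.card F = m + 1 := by rw [Fintype.card_coe, hF]
  let E : F ≃ Fin (m + 1) := Fintype.equivFinOfCardEq hFcard
  have hextend : ∀ (σ : Perm F) (w y : α), w ∉ F → y ∉ F →
      ∃ u : fixSet G F, fixRho G F u = σ ∧ fixVal G F u w = y := by
    intro σ w y hw hy
    haveI := hk (m + 2) (by omega)
    have emb : ∀ (τ : Perm F) z, z ∉ F → ∃ ι : Fin (m + 2) ↪ α,
        (∀ x : F, ι (E x).castSucc = (τ x : α)) ∧ ι (Fin.last (m + 1)) = z := by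
      intro τ z hz
      let f : Fin (m + 2) → α := Fin.lastCases z fun i => (τ (E.symm i) : α)
      have hf : Function.Injective f := by
        intro i j hij
        induction i using Fin.lastCases with
        | last =>
          induction j using Fin.lastCases with
          | last => rfl
          | cast j =>
            simp only [f, Fin.lastCases_last, Fin.lastCases_castSucc] at hij
            exact absurd (hij ▸ (τ (E.symm j)).2) hz
        | cast i =>
          induction j using Fin.lastCases with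
          | last =>
            simp only [f, Fin.lastCases_last, Fin.lastCases_castSucc] at hij
            exact absurd (hij ▸ (τ (E.symm i)).2) hz
          | cast j =>
            simp only [f, Fin.lastCases_castSucc] at hij
            rw [E.symm.injective (τ.injective (Subtype.ext hij))]
      exact ⟨⟨f, hf⟩, fun x => by simp [f], by simp [f]⟩
    obtain ⟨ι, hι, hιw⟩ := emb 1 w hw
    obtain ⟨ι', hι', hιy⟩ := emb σ y hy
    obtain ⟨g, hg⟩ := MulAction.exists_smul_eq G ι ι'
    have hgx : ∀ x : F, (g : Perm α) x = (σ x : α) := fun x => by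
      have := DFunLike.congr_fun hg (E x).castSucc
      rwa [Function.Embedding.smul_apply, hι, hι', Equiv.Perm.one_apply] at this
    have hmem : ∀ x, (g : Perm α) x ∈ F ↔ x ∈ F := fun x => by
      constructor
      · intro hx
        have := hgx (σ.symm ⟨_, hx⟩)
        rw [Equiv.apply_symm_apply] at this
        rw [← (g : Perm α).injective this]
        exact (σ.symm _).2
      · intro hx
        rw [hgx ⟨x, hx⟩]
        exact (σ ⟨x, hx⟩).2
    refine ⟨⟨g, hmem⟩, Equiv.ext fun x => Subtype.ext (hgx x), ?_⟩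
    have := DFunLike.congr_fun hg (Fin.last (m + 1))
    rwa [Function.Embedding.smul_apply, hιw, hιy] at this
  obtain ⟨w₀, hw₀⟩ : ∃ w, w ∉ F := by
    by_contra h
    push Not at h
    have := Finset.card_le_card (fun y _ => h y : (Finset.univ : Finset α) ⊆ F)
    rw [Finset.card_univ] at this
    omega
  set Kr := (fixRho G F).ker with hKr
  obtain ⟨R₀⟩ : Nonempty (Sylow r Kr) := inferInstance
  set R : Subgroup (fixSet G F) := (R₀ : Subgroup Kr).map Kr.subtype with hR
  have hsup : Subgroup.normalizer (R : Set (fixSet G F)) ⊔ Kr = ⊤ :=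
    Sylow.normalizer_sup_eq_top R₀
  have hRp : IsPGroup r R := R₀.2.map _
  have hRfix : ∀ g ∈ R, fixRho G F g = 1 := by
    rintro _ ⟨g, -, rfl⟩
    exact g.2
  have hcompl : Fᶜ.card = m * r := by rw [Finset.card_compl, hF, hcard, Nat.add_sub_cancel]
  let S : Blocks G F r m :=
    { R := R
      fix := hRfix
      isP := hRp
      count := hcompl
      surj := fun σ => by
        obtain ⟨u, rfl, -⟩ := hextend σ w₀ w₀ hw₀ hw₀
        have hu : u ∈ Subgroup.normalizer (R : Set (fixSet G F)) ⊔ Kr := hsup ▸ Subgroup.mem_top u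
        obtain ⟨n, hn, s, hs, rfl⟩ := Subgroup.mem_sup_of_normal_right.mp hu
        exact ⟨n, hn, by rw [map_mul, MonoidHom.mem_ker.mp hs, mul_one]⟩
      nocyc := fun g hg hcyc hsupp =>
        hno (Cfsg.Agent.S0713.result G hprim hr.out hcardα (by rcases hm with rfl | rfl <;> omega) hcyc hsupp hg)
      size := fun w hw => by
        obtain ⟨k, hk'⟩ := hRp.card_orbit w
        rw [Nat.card_coe_set_eq] at hk'
        have hsub : MulAction.orbit R w ⊆ ((Fᶜ : Finset α) : Set α) := by
          rintro _ ⟨g, rfl⟩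
          rw [Finset.coe_compl, Set.mem_compl_iff, Finset.mem_coe]
          exact fun h => hw (((g : fixSet G F).2 w).mp h)
        have hle : (MulAction.orbit R w).ncard ≤ m * r := by
          rw [← hcompl, ← Set.ncard_coe_finset]
          exact Set.ncard_le_ncard hsub (Finset.finite_toSet _)
        rcases (show k = 0 ∨ k = 1 ∨ 2 ≤ k by omega) with rfl | rfl | hk2
        · exfalso
          rw [pow_zero] at hk'
          have horbK : MulAction.orbit Kr w = ((Fᶜ : Finset α) : Set α) := by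
            ext y
            rw [Finset.coe_compl, Set.mem_compl_iff, Finset.mem_coe]
            constructor
            · rintro ⟨u, rfl⟩
              exact fun h => hw (((u : fixSet G F).2 w).mp h)
            · intro hy
              obtain ⟨u, hu, he⟩ := hextend 1 w y hw hy
              exact ⟨⟨u, hu⟩, he⟩
          have hle' : (R₀ : Subgroup Kr) ≤ MulAction.stabilizer Kr w := fun g hg => by
            obtain ⟨z, hz⟩ := Set.ncard_eq_one.mp hk'
            have h1 : (⟨(g : fixSet G F), ⟨g, hg, rfl⟩⟩ : R) • w ∈ MulAction.orbit R w := ⟨_, rfl⟩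
            have h2 : w ∈ MulAction.orbit R w := MulAction.mem_orbit_self w
            rw [hz, Set.mem_singleton_iff] at h1 h2
            exact h1.trans h2.symm
          have hdvd := Subgroup.index_dvd_of_le hle'
          rw [MulAction.index_stabilizer, horbK, Set.ncard_coe_finset, hcompl] at hdvd
          exact R₀.not_dvd_index ((Nat.dvd_mul_left r m).trans hdvd)
        · rw [hk', pow_one]
        · exfalso
          have h1 : r ^ 2 ≤ r ^ k := Nat.pow_le_pow_right hr.out.pos hk2
          have h2 : 5 * r ≤ r ^ 2 := by rw [sq]; exact Nat.mul_le_mul_right r hr5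
          have h3 : m * r ≤ 3 * r := Nat.mul_le_mul_right r (by omega)
          omega }
  rcases hm with rfl | rfl
  · exact hno (S.two_orbits hr5 hF hprim)
  · exact hno (S.three_orbits hr5 hF h5 hcardα)

end CfsgLib.HalfNormalizer
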