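import Cfsg.Agent.Lib.SmallGroups.PrimeTransitiveSylow
import Cfsg.Agent.S0675
import Mathlib

/-!
Transitive groups of prime degree with a Sylow normalizer of order `p (p - 1) / 2`:
two-point stabilizers have at most four orbits (module method).
-/

set_option autoImplicit false

namespace CfsgLib.HalfNormalizer

variable {G α : Type*} [Group G] [MulAction G α] {p : ℕ} [hp : Fact p.Prime]

section Coord

variable [FaithfulSMul G α] [Fintype α] [DecidableEq α]

theorem finite_group (G α : Type*) [Group G] [MulAction G α] [FaithfulSMul G α] [Finite α] :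
    Finite G :=
  Finite.of_injective (MulAction.toPermHom G α) MulAction.toPerm_injective

theorem prime_dvd_card_group [MulAction.IsPretransitive G α] (hα : Fintype.card α = p) :
    p ∣ Nat.card G := by
  haveI := finite_group G α
  obtain ⟨a⟩ : Nonempty α := Fintype.card_pos_iff.mp (hα ▸ hp.out.pos)
  rw [← hα, ← Nat.card_eq_fintype_card (α := α),
    ← MulAction.index_stabilizer_of_transitive (G := G) a]
  exact Subgroup.index_dvd_card _

theorem card_sylow [MulAction.IsPretransitive G α] (hα : Fintype.card α = p) (P : Sylow p G) :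
    Nat.card (P : Subgroup G) = p := by
  haveI := finite_group G α
  have hdvd : Nat.card G ∣ p.factorial := by
    have h := Subgroup.card_dvd_of_injective (MulAction.toPermHom G α) MulAction.toPerm_injective
    rwa [Nat.card_perm, Nat.card_eq_fintype_card (α := α), hα] at h
  rw [P.card_eq_multiplicity]
  have h1 : 1 ≤ (Nat.card G).factorization p :=
    (hp.out.dvd_iff_one_le_factorization Nat.card_pos.ne').mp (prime_dvd_card_group hα)
  have h2 : ¬ 2 ≤ (Nat.card G).factorization p := fun h =>
    CfsgLib.SmallGroups.not_sq_dvd_factorial (p := p) <| (show p * p ∣ Nat.card G by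
      rw [← pow_two, hp.out.pow_dvd_iff_le_factorization Nat.card_pos.ne']; exact h).trans hdvd
  rw [show (Nat.card G).factorization p = 1 by omega, pow_one]

/-- Coordinates in which the group contains all translations and all square dilations. -/
theorem exists_halfAffine [MulAction.IsPretransitive G α] (hα : Fintype.card α = p) (P : Sylow p G)
    (hN : 2 * Nat.card ↥(Subgroup.normalizer ((P : Subgroup G) : Set G)) = p * (p - 1)) :
    ∃ e : ZMod p ≃ α, (∀ c, ∃ g : G, ∀ j, g • e j = e (j + c)) ∧
      ∀ s : ZMod p, s ≠ 0 → ∃ g : G, ∀ j, g • e j = e (s * s * j) := by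
  haveI := finite_group G α
  obtain ⟨σ, hσo, hP⟩ := CfsgLib.SmallGroups.exists_zpowers_of_card_prime (card_sylow hα P)
  set f := MulAction.toPermHom G α with hf
  have hfinj : Function.Injective f := MulAction.toPerm_injective
  have hσ : orderOf (f σ) = p := by rw [orderOf_injective f hfinj, hσo]
  obtain ⟨a₀⟩ : Nonempty α := Fintype.card_pos_iff.mp (hα ▸ hp.out.pos)
  obtain ⟨e, -, he⟩ := CfsgLib.SmallGroups.exists_coord hα hσ a₀
  have htr : ∀ c : ZMod p, ∀ j, (σ ^ c.val) • e j = e (j + c) := fun c j => by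
    show f (σ ^ c.val) (e j) = _
    rw [map_pow, CfsgLib.SmallGroups.coord_zpow he, ZMod.natCast_zmod_val]
  set N := Subgroup.normalizer ((P : Subgroup G) : Set G) with hNdef
  have haff : ∀ n : N, ∃ a c : ZMod p, a ≠ 0 ∧ ∀ j, (n : G) • e j = e (a * j + c) := by
    intro n
    refine CfsgLib.SmallGroups.coord_of_conj (g := f (n : G)) hσ he ?_
    have h1 : (n : G) * σ * (n : G)⁻¹ ∈ (P : Subgroup G) :=
      (n.2 σ).mp (hP ▸ Subgroup.mem_zpowers σ)
    rw [hP] at h1
    rw [← map_inv, ← map_mul, ← map_mul, ← MonoidHom.map_zpowers]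
    exact Subgroup.mem_map_of_mem f h1
  choose A C hA0 hAC using haff
  have huniq : ∀ (n : N) (a c : ZMod p), (∀ j, (n : G) • e j = e (a * j + c)) → a = A n := by
    intro n a c h
    have h0 := e.injective ((h 0).symm.trans (hAC n 0))
    have h1 := e.injective ((h 1).symm.trans (hAC n 1))
    linear_combination h1 - h0
  let χ : N →* ZMod p :=
    { toFun := A
      map_one' := (huniq 1 1 0 fun j => by simp).symm
      map_mul' := fun m n => (huniq (m * n) (A m * A n) (A m * C n + C m) fun j => by
        rw [Subgroup.coe_mul, mul_smul, hAC, hAC]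
        congr 1
        ring).symm }
  have hker : χ.toHomUnits.ker = (P : Subgroup G).subgroupOf N := by
    ext n
    rw [MonoidHom.mem_ker, Subgroup.mem_subgroupOf, Units.ext_iff, MonoidHom.coe_toHomUnits]
    show A n = 1 ↔ _
    constructor
    · intro h
      have h1 : f (n : G) ∈ Subgroup.zpowers (f σ) := by
        refine CfsgLib.SmallGroups.mem_zpowers_of_coord (c := C n) he fun j => ?_
        show (n : G) • e j = _
        rw [hAC, h, one_mul]
      rw [← MonoidHom.map_zpowers] at h1
      obtain ⟨x, hx, hxn⟩ := h1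
      rw [hP, ← hfinj hxn]
      exact hx
    · intro h
      rw [hP, ← mem_powers_iff_mem_zpowers] at h
      obtain ⟨k, hk⟩ := (Submonoid.mem_powers_iff _ _).mp h
      refine (huniq n 1 (k : ZMod p) fun j => ?_).symm
      rw [← hk, one_mul]
      show f (σ ^ k) (e j) = _
      rw [map_pow, CfsgLib.SmallGroups.coord_zpow he]
  have hkc : Nat.card χ.toHomUnits.ker = p := by
    rw [hker, Nat.card_congr (Subgroup.subgroupOfEquivOfLe Subgroup.le_normalizer).toEquiv,
      card_sylow hα P]
  have hidx : χ.toHomUnits.range.index = 2 := by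
    have h1 := χ.toHomUnits.ker.card_mul_index
    rw [hkc, Subgroup.index_ker] at h1
    have h2 := χ.toHomUnits.range.card_mul_index
    rw [Nat.card_units, Nat.card_zmod] at h2
    rw [← h2, ← h1, mul_left_comm] at hN
    exact (Nat.eq_of_mul_eq_mul_left Nat.card_pos (by
      rw [mul_comm]; exact Nat.eq_of_mul_eq_mul_left hp.out.pos hN)).symm
  refine ⟨e, fun c => ⟨σ ^ c.val, htr c⟩, fun s hs => ?_⟩
  obtain ⟨n, hn⟩ := Subgroup.sq_mem_of_index_two hidx (Units.mk0 s hs)
  have hAn : A n = s * s := by
    have := congrArg Units.val hn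
    rw [MonoidHom.coe_toHomUnits] at this
    exact this.trans (by simp [pow_two])
  refine ⟨σ ^ (-C n).val * (n : G), fun j => ?_⟩
  rw [mul_smul, hAC, htr, hAn, add_assoc, add_neg_cancel, add_zero]

end Coord

section Core

open MulAction

/-- Every non-zero element is a square or a fixed non-square times a square. -/
theorem exists_sq_decomp {ν : ZMod p} (hν : ¬ IsSquare ν) (d : ZMod p) :
    ∃ s : ZMod p, d = s * s ∨ d = s * s * ν := by
  have hν0 : ν ≠ 0 := fun h => hν (h ▸ IsSquare.zero)
  by_cases hd : IsSquare d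
  · obtain ⟨s, hs⟩ := hd
    exact ⟨s, Or.inl hs⟩
  · have hd0 : d ≠ 0 := fun h => hd (h ▸ IsSquare.zero)
    have h : IsSquare (d / ν) := by
      by_contra h
      apply h
      rw [← quadraticChar_one_iff_isSquare (div_ne_zero hd0 hν0), div_eq_mul_inv, map_mul,
        quadraticChar_neg_one_iff_not_isSquare.mpr hd,
        quadraticChar_neg_one_iff_not_isSquare.mpr (mt isSquare_inv.mp hν)]
      norm_num
    obtain ⟨s, hs⟩ := h
    exact ⟨s, Or.inr (by rw [← hs, div_mul_cancel₀ _ hν0])⟩

variable [Fintype α] [DecidableEq α]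

/-- A two-point stabilizer has at most four orbits. -/
theorem card_orbits_le_four (hα : Fintype.card α = p) (hp2 : p ≠ 2)
    (h2 : IsMultiplyPretransitive G α 2) (e : ZMod p ≃ α)
    (htr : ∀ c, ∃ g : G, ∀ j, g • e j = e (j + c))
    (hsq : ∀ s : ZMod p, s ≠ 0 → ∃ g : G, ∀ j, g • e j = e (s * s * j))
    (hirr : ∀ W : Submodule (ZMod p) (α → ZMod p),
      (∀ (g : G), ∀ w ∈ W, (fun x => w (g⁻¹ • x)) ∈ W) → (fun _ => 1) ∈ W →
      (∀ w ∈ W, ∑ x, w x = 0) → (fun x => e.symm x) ∈ W →
      ∀ w : α → ZMod p, ∑ x, w x = 0 → w ∈ W)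
    (a b : α) (hab : a ≠ b) :
    Nat.card (orbitRel.Quotient ↥(stabilizer G a ⊓ stabilizer G b) α) ≤ 4 := by
  classical
  set H := stabilizer G a ⊓ stabilizer G b with hH
  set Q := orbitRel.Quotient H α
  letI : Fintype Q := Fintype.ofFinite Q
  rw [is_two_pretransitive_iff] at h2
  have ht : ∀ u v : α, ∃ t : G, u ≠ v → t • a = u ∧ t • b = v := by
    intro u v
    by_cases h : u = v
    · exact ⟨1, fun h' => absurd h h'⟩
    · obtain ⟨t, h1, h3⟩ := h2 hab h
      exact ⟨t, fun _ => ⟨h1, h3⟩⟩
  choose t ht using ht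
  let π : α → Q := fun x => Quotient.mk'' x
  have hπ : ∀ h ∈ H, ∀ x, π (h • x) = π x := fun h hh x =>
    Quotient.sound' ⟨⟨h, hh⟩, rfl⟩
  let L : (Q → ZMod p) → (α → ZMod p) → α → α → ZMod p :=
    fun f w u v => ∑ z, f (π ((t u v)⁻¹ • z)) * w z
  have hequiv : ∀ (f : Q → ZMod p) (w : α → ZMod p) (g : G) (u v : α), u ≠ v →
      L f (fun z => w (g • z)) u v = L f w (g • u) (g • v) := by
    intro f w g u v huv
    refine Fintype.sum_equiv (MulAction.toPerm g) _ _ fun z => ?_
    rw [MulAction.toPerm_apply]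
    have hguv : g • u ≠ g • v := fun h => huv (MulAction.injective g h)
    have hmem : (t (g • u) (g • v))⁻¹ * g * t u v ∈ H := by
      refine ⟨?_, ?_⟩
      · show _ • a = a
        rw [mul_smul, mul_smul, (ht u v huv).1, inv_smul_eq_iff, (ht _ _ hguv).1]
      · show _ • b = b
        rw [mul_smul, mul_smul, (ht u v huv).2, inv_smul_eq_iff, (ht _ _ hguv).2]
    have := hπ _ hmem ((t u v)⁻¹ • z)
    rw [mul_smul, mul_smul, smul_inv_smul] at this
    rw [this]
  have hsum : ∀ (f : Q → ZMod p) (u v : α), L f (fun _ => 1) u v = ∑ z, f (π z) := fun f u v =>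
    Fintype.sum_equiv (MulAction.toPerm (t u v)⁻¹) _ _ fun z => by simp
  have hLadd : ∀ (f : Q → ZMod p) (w w' : α → ZMod p) (u v : α),
      L f (w + w') u v = L f w u v + L f w' u v := fun f w w' u v => by
    simp only [L, Pi.add_apply, mul_add, Finset.sum_add_distrib]
  have hLsmul : ∀ (f : Q → ZMod p) (c : ZMod p) (w : α → ZMod p) (u v : α),
      L f (c • w) u v = c * L f w u v := fun f c w u v => by
    simp only [L, Pi.smul_apply, smul_eq_mul, Finset.mul_sum]
    exact Finset.sum_congr rfl fun z _ => by ring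
  obtain ⟨ν, hν⟩ := FiniteField.exists_nonsquare (F := ZMod p) (by rwa [ZMod.ringChar_zmod_n])
  set lin : α → ZMod p := fun x => e.symm x with hlin
  let Ψ : (Q → ZMod p) →ₗ[ZMod p] (Fin 3 → ZMod p) :=
    { toFun := fun f => ![∑ z, f (π z), L f lin (e 0) (e 1), L f lin (e 0) (e ν)]
      map_add' := fun f g => by
        ext i
        fin_cases i <;> simp [L, Finset.sum_add_distrib, add_mul]
      map_smul' := fun c f => by
        ext i
        fin_cases i <;> simp [L, Finset.mul_sum, mul_assoc] }
  have hker : LinearMap.ker Ψ ≤ Submodule.span (ZMod p) {fun _ : Q => (1 : ZMod p)} := by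
    intro f hf
    rw [LinearMap.mem_ker] at hf
    have hf0 : ∑ z, f (π z) = 0 := by simpa [Ψ] using congrFun hf 0
    have hf1 : L f lin (e 0) (e 1) = 0 := by simpa [Ψ] using congrFun hf 1
    have hf2 : L f lin (e 0) (e ν) = 0 := by simpa [Ψ] using congrFun hf 2
    have hshift : ∀ (c : ZMod p) (u v : ZMod p), u ≠ v →
        L f lin (e (u + c)) (e (v + c)) = L f lin (e u) (e v) := by
      intro c u v huv
      obtain ⟨g, hg⟩ := htr c
      rw [← hg, ← hg, ← hequiv f lin g _ _ (e.injective.ne huv)]
      have : (fun z => lin (g • z)) = lin + c • (fun _ => 1) := by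
        funext z
        obtain ⟨j, rfl⟩ := e.surjective z
        simp [hlin, hg]
      rw [this, hLadd, hLsmul, hsum, hf0, mul_zero, add_zero]
    have hdil : ∀ (s : ZMod p), s ≠ 0 → ∀ d : ZMod p, d ≠ 0 →
        L f lin (e 0) (e (s * s * d)) = s * s * L f lin (e 0) (e d) := by
      intro s hs d hd
      obtain ⟨g, hg⟩ := hsq s hs
      calc L f lin (e 0) (e (s * s * d)) = L f lin (g • e 0) (g • e d) := by
            rw [hg, hg, mul_zero]
        _ = _ := by
          rw [← hequiv f lin g _ _ (e.injective.ne (Ne.symm hd)), ← hLsmul]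
          congr 1
          funext z
          obtain ⟨j, rfl⟩ := e.surjective z
          simp [hlin, hg]
    have hzero : ∀ u v, u ≠ v → L f lin u v = 0 := by
      intro u v huv
      obtain ⟨i, rfl⟩ := e.surjective u
      obtain ⟨j, rfl⟩ := e.surjective v
      have hij : (0 : ZMod p) ≠ j - i := fun h => huv (congrArg e (sub_eq_zero.mp h.symm).symm)
      have h := hshift i 0 (j - i) hij
      rw [zero_add, sub_add_cancel] at h
      rw [h]
      obtain ⟨s, hs⟩ := exists_sq_decomp hν (j - i)
      have hs0 : s ≠ 0 := by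
        rintro rfl
        rcases hs with hs | hs <;> simp [hs] at hij
      rcases hs with hs | hs
      · rw [hs, ← mul_one (s * s), hdil s hs0 1 one_ne_zero, hf1, mul_zero]
      · rw [hs, hdil s hs0 ν (fun h => hν (h ▸ IsSquare.zero)), hf2, mul_zero]
    let W : Submodule (ZMod p) (α → ZMod p) :=
      { carrier := {w | ∑ x, w x = 0 ∧ ∀ u v, u ≠ v → L f w u v = 0}
        add_mem' := fun {w w'} hw hw' => ⟨by simp [Finset.sum_add_distrib, hw.1, hw'.1],
          fun u v h => by rw [hLadd, hw.2 u v h, hw'.2 u v h, add_zero]⟩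
        zero_mem' := ⟨by simp, fun u v h => by simp [L]⟩
        smul_mem' := fun c w hw => ⟨by simp [← Finset.mul_sum, hw.1],
          fun u v h => by rw [hLsmul, hw.2 u v h, mul_zero]⟩ }
    have hW : ∀ w : α → ZMod p, ∑ x, w x = 0 → w ∈ W := by
      refine hirr W ?_ ⟨by simp [hα], fun u v _ => (hsum f u v).trans hf0⟩ (fun w hw => hw.1)
        ⟨?_, hzero⟩
      · intro g w hw
        refine ⟨(Fintype.sum_equiv (MulAction.toPerm g⁻¹) _ _ fun x => rfl).trans hw.1,
          fun u v huv => ?_⟩
        rw [hequiv f w g⁻¹ u v huv]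
        exact hw.2 _ _ fun h => huv (MulAction.injective g⁻¹ h)
      · rw [Fintype.sum_equiv e.symm lin (fun j : ZMod p => j ^ 1) (fun x => (pow_one _).symm)]
        refine FiniteField.sum_pow_lt_card_sub_one (ZMod p) 1 ?_
        rw [ZMod.card]
        have := hp.out.two_le
        omega
    refine Submodule.mem_span_singleton.mpr ⟨f (π a), funext fun q => ?_⟩
    obtain ⟨x, rfl⟩ := Quotient.mk''_surjective q
    set T := t a b
    have h := (hW (Pi.single (T • x) 1 - Pi.single (T • a) 1)
      (by simp [Finset.sum_sub_distrib])).2 a b hab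
    simp only [L, Pi.sub_apply, mul_sub, Finset.sum_sub_distrib, Pi.single_apply, mul_ite, mul_one,
      mul_zero, Finset.sum_ite_eq', Finset.mem_univ, if_true, T, inv_smul_smul] at h
    simp only [Pi.smul_apply, smul_eq_mul, mul_one]
    exact (sub_eq_zero.mp h).symm
  have h3 : Module.finrank (ZMod p) (LinearMap.ker Ψ) ≤ 1 :=
    (Submodule.finrank_mono hker).trans (le_of_le_of_eq (finrank_span_le_card _) (by simp))
  have h4 : Module.finrank (ZMod p) (LinearMap.range Ψ) ≤ 3 :=
    (Submodule.finrank_le _).trans (le_of_eq (by simp))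
  have h5 := LinearMap.finrank_range_add_finrank_ker Ψ
  rw [Module.finrank_pi] at h5
  rw [Nat.card_eq_fintype_card]
  omega

omit [Fintype α] [DecidableEq α] in
/-- If a two-point stabilizer has at most three orbits then the group is triply transitive. -/
theorem three_pretransitive_of_card_orbits [Finite α] (h2 : IsMultiplyPretransitive G α 2)
    {a b : α} (hab : a ≠ b)
    (hQ : Nat.card (orbitRel.Quotient ↥(stabilizer G a ⊓ stabilizer G b) α) ≤ 3) :
    IsMultiplyPretransitive G α 3 := by
  classical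
  set H := stabilizer G a ⊓ stabilizer G b with hH
  rw [is_two_pretransitive_iff] at h2
  letI : Fintype (orbitRel.Quotient H α) := Fintype.ofFinite _
  let π : α → orbitRel.Quotient H α := fun x => Quotient.mk'' x
  have hmove : ∀ x y : α, x ≠ a → x ≠ b → y ≠ a → y ≠ b → ∃ h ∈ H, h • x = y := by
    intro x y hxa hxb hya hyb
    have hfix : ∀ c z : α, (∀ h ∈ H, h • c = c) → π z = π c → z = c := by
      intro c z hc hz
      obtain ⟨⟨h, hh⟩, hhz⟩ := Quotient.exact' hz
      exact (hhz.symm.trans (hc h hh))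
    have hca : ∀ h ∈ H, h • a = a := fun h hh => hh.1
    have hcb : ∀ h ∈ H, h • b = b := fun h hh => hh.2
    have hxy : π y = π x := by
      by_contra hne
      have hle : ({π a, π b, π x, π y} : Finset _).card ≤ 3 :=
        (Finset.card_le_univ _).trans (by rwa [← Nat.card_eq_fintype_card])
      rw [Finset.card_eq_four.mpr ⟨π a, π b, π x, π y,
        fun h => hab (hfix b a hcb h), fun h => hxa (hfix a x hca h.symm),
        fun h => hya (hfix a y hca h.symm), fun h => hxb (hfix b x hcb h.symm),
        fun h => hyb (hfix b y hcb h.symm), Ne.symm hne, rfl⟩] at hle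
      omega
    obtain ⟨⟨h, hh⟩, hhy⟩ := Quotient.exact' hxy
    exact ⟨h, hh, hhy⟩
  refine ⟨fun x y => ?_⟩
  obtain ⟨g, hg0, hg1⟩ := h2 (x.injective.ne (show (0 : Fin 3) ≠ 1 by decide)) hab
  obtain ⟨k, hk0, hk1⟩ := h2 (y.injective.ne (show (0 : Fin 3) ≠ 1 by decide)) hab
  have hne : ∀ (m : G) (z : Fin 3 ↪ α) (i : Fin 3), i ≠ 2 → m • z 2 ≠ m • z i :=
    fun m z i hi h => hi (z.injective (MulAction.injective m h)).symm
  obtain ⟨h, hh, hhx⟩ := hmove (g • x 2) (k • y 2)
    (hg0 ▸ hne g x 0 (by decide)) (hg1 ▸ hne g x 1 (by decide))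
    (hk0 ▸ hne k y 0 (by decide)) (hk1 ▸ hne k y 1 (by decide))
  refine ⟨k⁻¹ * h * g, ?_⟩
  ext i
  rw [Function.Embedding.smul_apply, mul_smul, mul_smul, inv_smul_eq_iff]
  fin_cases i
  · show h • g • x 0 = k • y 0
    rw [hg0, hk0]; exact hh.1
  · show h • g • x 1 = k • y 1
    rw [hg1, hk1]; exact hh.2
  · exact hhx

end Core

section Main

open MulAction

variable [FaithfulSMul G α] [Fintype α] [DecidableEq α] [IsPretransitive G α]

theorem two_pretransitive (hα : Fintype.card α = p) (hG : ¬ Group.IsSolvable G) :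
    IsMultiplyPretransitive G α 2 := by
  set f := MulAction.toPermHom G α
  haveI : IsPretransitive f.range α := ⟨fun x y => by
    obtain ⟨g, hg⟩ := exists_smul_eq G x y
    exact ⟨⟨f g, g, rfl⟩, hg⟩⟩
  have hG' : ¬ Group.IsSolvable f.range := fun h => hG
    (Group.isSolvable_of_isSolvable_injective (f := f.rangeRestrict)
      fun x y hxy => MulAction.toPerm_injective (congrArg Subtype.val hxy))
  have h := (Cfsg.Agent.S0675.result (by rw [hα]; exact hp.out) f.range).resolve_left hG'
  rw [is_two_pretransitive_iff] at h ⊢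
  intro w x y z hwx hyz
  obtain ⟨⟨_, g, rfl⟩, h1, h3⟩ := h hwx hyz
  exact ⟨g, h1, h3⟩

theorem invariant_eq_sumZero (hα : Fintype.card α = p) (hG : ¬ Group.IsSolvable G)
    (e : ZMod p ≃ α) (W : Submodule (ZMod p) (α → ZMod p))
    (hinv : ∀ (g : G), ∀ w ∈ W, (fun x => w (g⁻¹ • x)) ∈ W) (hone : (fun _ => 1) ∈ W)
    (hsum : ∀ w ∈ W, ∑ x, w x = 0) (hlin : (fun x => e.symm x) ∈ W)
    (w : α → ZMod p) (hw : ∑ x, w x = 0) : w ∈ W := by
  set f := MulAction.toPermHom G α
  haveI : IsPretransitive f.range α := ⟨fun x y => by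
    obtain ⟨g, hg⟩ := exists_smul_eq G x y
    exact ⟨⟨f g, g, rfl⟩, hg⟩⟩
  have hG' : ¬ Group.IsSolvable f.range := fun h => hG
    (Group.isSolvable_of_isSolvable_injective (f := f.rangeRestrict)
      fun x y hxy => MulAction.toPerm_injective (congrArg Subtype.val hxy))
  let W' : Subrepresentation (Cfsg.permRep (ZMod p) f.range α) :=
    { toSubmodule := W
      apply_mem_toSubmodule := by
        rintro ⟨_, g, rfl⟩ v hv
        convert hinv g v hv using 1
        funext x
        show v ((f g)⁻¹ x) = _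
        rw [← map_inv]; rfl }
  rcases CfsgLib.SmallGroups.heart_irreducible hα f.range hG' W'
      (CfsgLib.SmallGroups.PermModule.constants_le_of_one_mem hone) hsum with h | h
  · have hlin' : (fun x => e.symm x) ∈ W'.toSubmodule := hlin
    rw [h] at hlin'
    obtain ⟨c, hc⟩ := CfsgLib.SmallGroups.PermModule.mem_constants.mp hlin'
    have h01 := (hc (e 0)).trans (hc (e 1)).symm
    simp at h01
  · show w ∈ W'.toSubmodule
    rw [h]
    exact hw

/-- Main dichotomy: triply transitive, or four orbits for every two-point stabilizer. -/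
theorem three_transitive_or_four (hα : Fintype.card α = p) (hp2 : p ≠ 2)
    (hG : ¬ Group.IsSolvable G) (P : Sylow p G)
    (hN : 2 * Nat.card ↥(Subgroup.normalizer ((P : Subgroup G) : Set G)) = p * (p - 1)) :
    IsMultiplyPretransitive G α 3 ∨ ∀ a b : α, a ≠ b →
      Nat.card (orbitRel.Quotient ↥(stabilizer G a ⊓ stabilizer G b) α) = 4 := by
  refine or_iff_not_imp_left.mpr fun h3 a b hab => ?_
  obtain ⟨e, htr, hsq⟩ := exists_halfAffine hα P hN
  have h2 := two_pretransitive hα hG
  have hle := card_orbits_le_four hα hp2 h2 e htr hsq (invariant_eq_sumZero hα hG e) a b hab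
  by_contra hne
  exact h3 (three_pretransitive_of_card_orbits h2 hab (by omega))

end Main

end CfsgLib.HalfNormalizer
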