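import Mathlib

/-!
Arithmetic of translation and square-dilation invariant line systems on `ZMod p`, `p % 4 = 3`.
-/

set_option autoImplicit false

namespace CfsgLib.HalfNormalizer

variable {p : ℕ} [hp : Fact p.Prime]

theorem not_isSquare_neg_one (hp4 : p % 4 = 3) : ¬ IsSquare (-1 : ZMod p) :=
  fun h => ZMod.exists_sq_eq_neg_one_iff.mp h hp4

theorem isSquare_neg_iff (hp4 : p % 4 = 3) {x : ZMod p} (hx : x ≠ 0) :
    IsSquare (-x) ↔ ¬ IsSquare x := by
  constructor
  · intro h h'
    apply not_isSquare_neg_one (p := p) hp4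
    rw [show (-1 : ZMod p) = -x / x by rw [neg_div, div_self hx]]
    exact h.div h'
  · intro h
    by_contra h'
    apply not_isSquare_neg_one (p := p) hp4
    rw [show (-1 : ZMod p) = -x * x / (x * x) by field_simp]
    refine IsSquare.div ?_ (IsSquare.mul_self x)
    rw [← quadraticChar_one_iff_isSquare (mul_ne_zero (neg_ne_zero.mpr hx) hx), map_mul,
      quadraticChar_neg_one_iff_not_isSquare.mpr h, quadraticChar_neg_one_iff_not_isSquare.mpr h']
    norm_num

theorem eq_univ_of_translate {S : Finset (ZMod p)} (hne : S.Nonempty) {τ : ZMod p} (hτ : τ ≠ 0)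
    (h : ∀ j ∈ S, j + τ ∈ S) : S = Finset.univ := by
  obtain ⟨a, ha⟩ := hne
  have key : ∀ n : ℕ, a + n * τ ∈ S := by
    intro n
    induction n with
    | zero => simpa using ha
    | succ n ih =>
      have := h _ ih
      rwa [Nat.cast_succ, add_mul, one_mul, ← add_assoc]
  rw [Finset.eq_univ_iff_forall]
  intro x
  have := key ((x - a) / τ).val
  rwa [ZMod.natCast_zmod_val, div_mul_cancel₀ _ hτ, add_sub_cancel] at this

/-- A line closed under the maps `j ↦ u + (v - u) j` has at most three points. -/
theorem card_line_le (hp4 : p % 4 = 3) (S : Finset (ZMod p)) (h0 : (0 : ZMod p) ∈ S)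
    (h1 : (1 : ZMod p) ∈ S) (hne : S ≠ Finset.univ)
    (hcl : ∀ u ∈ S, ∀ v ∈ S, u ≠ v → IsSquare (v - u) → ∀ j ∈ S, u + (v - u) * j ∈ S) :
    S.card ≤ 3 := by
  classical
  set T := S.offDiag.filter (fun i => IsSquare (i.2 - i.1)) with hT
  have hmemT : ∀ i, i ∈ T ↔ (i.1 ∈ S ∧ i.2 ∈ S ∧ i.1 ≠ i.2) ∧ IsSquare (i.2 - i.1) := fun i => by
    rw [hT, Finset.mem_filter, Finset.mem_offDiag]
  have hhalf : 2 * T.card = S.card * S.card - S.card := by
    rw [← Finset.offDiag_card, ← Finset.card_filter_add_card_filter_not
      (s := S.offDiag) (fun i => IsSquare (i.2 - i.1)), two_mul]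
    congr 1
    refine Finset.card_equiv (Equiv.prodComm _ _) fun i => ?_
    simp only [hT, Finset.mem_filter, Finset.mem_offDiag, Equiv.prodComm_apply, Prod.fst_swap,
      Prod.snd_swap]
    constructor
    · rintro ⟨⟨hu, hv, huv⟩, hs⟩
      refine ⟨⟨hv, hu, huv.symm⟩, ?_⟩
      rw [← neg_sub, isSquare_neg_iff hp4 (sub_ne_zero.mpr huv.symm)]
      exact not_not.mpr hs
    · rintro ⟨⟨hv, hu, huv⟩, hs⟩
      refine ⟨⟨hu, hv, huv.symm⟩, ?_⟩
      rw [← neg_sub i.1 i.2, isSquare_neg_iff hp4 (sub_ne_zero.mpr huv.symm)]
      exact hs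
  let A : ZMod p × ZMod p → ZMod p → ZMod p := fun i j => i.1 + (i.2 - i.1) * j
  have hA : ∀ i ∈ T, ∀ j ∈ S, A i j ∈ S := fun i hi j hj =>
    hcl _ ((hmemT i).mp hi).1.1 _ ((hmemT i).mp hi).1.2.1 ((hmemT i).mp hi).1.2.2
      ((hmemT i).mp hi).2 j hj
  have hinj : ∀ i ∈ T, Function.Injective (A i) := fun i hi a b h => by
    simp only [A, add_right_inj, mul_eq_mul_left_iff] at h
    exact h.resolve_right (sub_ne_zero.mpr ((hmemT i).mp hi).1.2.2.symm)
  have hcomm : ∀ i ∈ T, ∀ k ∈ T,
      i.1 * (1 - (k.2 - k.1)) = k.1 * (1 - (i.2 - i.1)) := by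
    intro i hi k hk
    by_contra hne'
    refine hne (eq_univ_of_translate ⟨0, h0⟩
      (τ := i.1 * (1 - (k.2 - k.1)) - k.1 * (1 - (i.2 - i.1))) (sub_ne_zero.mpr hne') ?_)
    intro j hj
    have hsurj : ∀ i ∈ T, ∀ j ∈ S, ∃ l ∈ S, A i l = j := fun i hi j hj => by
      have : S.image (A i) = S := Finset.eq_of_subset_of_card_le
        (Finset.image_subset_iff.mpr (hA i hi)) (le_of_eq (Finset.card_image_of_injective _ (hinj i hi)).symm)
      rw [← this] at hj
      exact Finset.mem_image.mp hj
    obtain ⟨l, hl, hlj⟩ := hsurj k hk j hj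
    obtain ⟨l', hl', hll⟩ := hsurj i hi l hl
    have := hA i hi _ (hA k hk l' hl')
    convert this using 1
    simp only [A] at hlj hll ⊢
    rw [← hlj, ← hll]
    ring
  by_cases hsmall : ∀ i ∈ T, i.2 - i.1 = 1
  · have : T ⊆ {((0 : ZMod p), (1 : ZMod p))} := by
      intro i hi
      rw [Finset.mem_singleton]
      have hu : i.1 = 0 := by
        by_contra hu
        refine hne (eq_univ_of_translate ⟨0, h0⟩ hu fun j hj => ?_)
        have := hA i hi j hj
        simp only [A, hsmall i hi, one_mul] at this
        rwa [add_comm]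
      have hv := hsmall i hi
      rw [hu, sub_zero] at hv
      exact Prod.ext hu hv
    have := Finset.card_le_card this
    rw [Finset.card_singleton] at this
    by_contra hc
    have h4 : 4 * S.card ≤ S.card * S.card := Nat.mul_le_mul_right _ (by omega)
    omega
  push Not at hsmall
  obtain ⟨i0, hi0, hs0⟩ := hsmall
  set z := i0.1 / (1 - (i0.2 - i0.1)) with hz
  have hd0 : 1 - (i0.2 - i0.1) ≠ 0 := sub_ne_zero.mpr (Ne.symm hs0)
  have hfix : ∀ i ∈ T, A i z = z := by
    intro i hi
    have h := hcomm i hi i0 hi0
    simp only [A, hz]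
    field_simp
    linear_combination h
  obtain ⟨y, hyS, hyz⟩ : ∃ y ∈ S, y ≠ z := by
    by_cases h : (0 : ZMod p) = z
    · exact ⟨1, h1, fun h' => one_ne_zero (h'.trans h.symm)⟩
    · exact ⟨0, h0, h⟩
  have hle : T.card ≤ S.card := by
    refine Finset.card_le_card_of_injOn (fun i => A i y) (fun i hi => hA i hi y hyS) ?_
    intro i hi k hk h
    have hi' : i ∈ T := hi
    have hk' : k ∈ T := hk
    have h' : A i y - A i z = A k y - A k z := by
      rw [hfix i hi', hfix k hk']
      exact congrArg (· - z) h
    have hd : i.2 - i.1 = k.2 - k.1 := by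
      apply mul_right_cancel₀ (sub_ne_zero.mpr hyz)
      simp only [A] at h'
      linear_combination h'
    have hu : i.1 = k.1 := by
      have e : A i y = A k y := h
      simp only [A, hd, add_left_inj] at e
      exact e
    exact Prod.ext hu (by linear_combination hd + hu)
  by_contra hc
  have h4 : 4 * S.card ≤ S.card * S.card := Nat.mul_le_mul_right _ (by omega)
  omega

/-- Third point of the line through `x` and `c`. -/
noncomputable def third (t x c : ZMod p) : ZMod p :=
  haveI := Classical.propDecidable (IsSquare (c - x))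
  if IsSquare (c - x) then x + (c - x) * t else x + (c - x) * (1 - t)

theorem third_eq (t x c : ZMod p) : ∃ b : Bool,
    (b = true ↔ IsSquare (c - x)) ∧
      third t x c = x + (c - x) * (if b then t else 1 - t) := by
  classical
  refine ⟨decide (IsSquare (c - x)), by simp, ?_⟩
  unfold third
  by_cases h : IsSquare (c - x) <;> simp [h]

theorem card_squares (hp4 : p % 4 = 3) [DecidablePred (fun c : ZMod p => IsSquare c)] :
    2 * (Finset.univ.filter fun c : ZMod p => IsSquare c ∧ c ≠ 0).card + 1 = p := by
  have h : (Finset.univ.filter fun c : ZMod p => IsSquare c ∧ c ≠ 0).card =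
      (Finset.univ.filter fun c : ZMod p => ¬ IsSquare c).card := by
    refine Finset.card_equiv (Equiv.neg _) fun c => ?_
    simp only [Finset.mem_filter, Finset.mem_univ, true_and, Equiv.neg_apply]
    by_cases hc : c = 0
    · simp [hc, IsSquare.zero]
    · rw [isSquare_neg_iff hp4 hc]
      simp [hc]
  have h2 := Finset.card_filter_add_card_filter_not
    (s := (Finset.univ : Finset (ZMod p))) (fun c : ZMod p => IsSquare c)
  have h3 : (Finset.univ.filter fun c : ZMod p => IsSquare c).card =
      (Finset.univ.filter fun c : ZMod p => IsSquare c ∧ c ≠ 0).card + 1 := by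
    rw [← Finset.card_insert_of_notMem (s := Finset.univ.filter fun c : ZMod p => IsSquare c ∧ c ≠ 0)
      (a := (0 : ZMod p)) (by simp)]
    congr 1
    ext c
    simp only [Finset.mem_filter, Finset.mem_univ, true_and, Finset.mem_insert]
    by_cases hc : c = 0 <;> simp [hc, IsSquare.zero]
  rw [Finset.card_univ, ZMod.card] at h2
  omega

theorem no_root_eleven : ∀ t : ZMod 11, t * t - t + 1 ≠ 0 := by decide

/-- The two identities forced by triangle transitivity bound the prime. -/
theorem netto_le (hp4 : p % 4 = 3) {t : ZMod p} (ht : t * t - t + 1 = 0)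
    (h : (∀ c, c ≠ 0 → c ≠ 1 → c ≠ t → third t 0 (third t 1 c) = third t t c) ∨
      (∀ c, c ≠ 0 → c ≠ 1 → c ≠ t →
        third t 0 (third t 1 (third t 0 c)) = third t t c)) :
    p ≤ 7 := by
  classical
  by_contra hp7
  push Not at hp7
  have hsmall : ∀ n : ℕ, 0 < n → n < 8 → (n : ZMod p) ≠ 0 := fun n h0 hn h =>
    absurd (Nat.le_of_dvd h0 ((ZMod.natCast_eq_zero_iff n p).mp h)) (by omega)
  have h2 : (2 : ZMod p) ≠ 0 := by exact_mod_cast hsmall 2 (by norm_num) (by norm_num)
  have h3 : (3 : ZMod p) ≠ 0 := by exact_mod_cast hsmall 3 (by norm_num) (by norm_num)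
  have ht0 : t ≠ 0 := fun e => by rw [e] at ht; simp at ht
  have ht1 : t ≠ 1 := fun e => by rw [e] at ht; simp at ht
  have ht2 : t ≠ 2 := fun e => h3 (by rw [e] at ht; linear_combination ht)
  have htn : t ≠ -1 := fun e => h3 (by rw [e] at ht; linear_combination ht)
  have hth : 2 * t - 1 ≠ 0 := fun e => h3 (by linear_combination 4 * ht - (2 * t - 1) * e)
  have hnotp : p ≠ 11 := by
    rintro rfl
    exact no_root_eleven t ht
  rcases h with h | h
  · -- first identity
    set B : Finset (ZMod p) := Finset.univ \ {0, 1, t} with hB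
    have hcard : p ≤ B.card + 3 := by
      have := Finset.le_card_sdiff ({0, 1, t} : Finset (ZMod p)) Finset.univ
      have h3' : ({0, 1, t} : Finset (ZMod p)).card ≤ 3 := Finset.card_le_three
      rw [Finset.card_univ, ZMod.card] at this
      rw [hB]
      omega
    have hpat : ∀ c ∈ B, ∃ b : Bool × Bool × Bool,
        (if b.1 then t else 1 - t) * (1 + (c - 1) * (if b.2.1 then t else 1 - t)) =
          t + (c - t) * (if b.2.2 then t else 1 - t) := by
      intro c hc
      simp only [hB, Finset.mem_sdiff, Finset.mem_univ, true_and, Finset.mem_insert,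
        Finset.mem_singleton, not_or] at hc
      obtain ⟨b2, -, e2⟩ := third_eq t 1 c
      obtain ⟨b3, -, e3⟩ := third_eq t t c
      obtain ⟨b1, -, e1⟩ := third_eq t 0 (third t 1 c)
      refine ⟨(b1, b2, b3), ?_⟩
      have := h c hc.1 hc.2.1 hc.2.2
      rw [e1, e2, e3] at this
      linear_combination this
    choose! b hb using hpat
    have hle : B.card ≤ (Finset.univ : Finset (Bool × Bool × Bool)).card := by
      refine Finset.card_le_card_of_injOn b (fun c _ => Finset.mem_univ _) ?_
      intro c hc d hd hcd
      have hc' := hb c hc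
      have hd' := hb d hd
      rw [hcd] at hc'
      apply sub_eq_zero.mp
      have key : (c - d) * ((if (b d).1 then t else 1 - t) * (if (b d).2.1 then t else 1 - t)
          - (if (b d).2.2 then t else 1 - t)) = 0 := by linear_combination hc' - hd'
      refine (mul_eq_zero.mp key).resolve_right ?_
      rcases b d with ⟨_ | _, _ | _, _ | _⟩ <;> simp only [Bool.false_eq_true, if_true, if_false] <;>
        intro e
      · exact one_ne_zero (by linear_combination -e + ht : (1 : ZMod p) = 0)
      · exact mul_ne_zero h2 ht0 (by linear_combination ht - e)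
      · exact ht0 (by linear_combination e + ht)
      · exact ht1 (by linear_combination -e - ht)
      · exact ht0 (by linear_combination e + ht)
      · exact ht1 (by linear_combination -e - ht)
      · exact mul_ne_zero h2 (sub_ne_zero.mpr ht1) (by linear_combination e - ht)
      · exact one_ne_zero (by linear_combination -e + ht : (1 : ZMod p) = 0)
    simp at hle
    omega
  · -- second identity
    set S : Finset (ZMod p) := (Finset.univ.filter fun c => IsSquare c ∧ c ≠ 0) \ {1, t} with hS
    set allowed : Finset (Bool × Bool × Bool) :=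
      {(true, true, true), (true, true, false), (true, false, false), (false, true, false),
        (false, false, true)} with hal
    have hpat : ∀ c ∈ S, ∃ b ∈ allowed,
        (if b.1 then t else 1 - t) * (1 + (c * t - 1) * (if b.2.1 then t else 1 - t)) =
          t + (c - t) * (if b.2.2 then t else 1 - t) := by
      intro c hc
      simp only [hS, Finset.mem_sdiff, Finset.mem_filter, Finset.mem_univ, true_and,
        Finset.mem_insert, Finset.mem_singleton, not_or] at hc
      obtain ⟨b3, hb3, e3⟩ := third_eq t 0 c
      obtain ⟨b4, -, e4⟩ := third_eq t t c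
      obtain ⟨b2, -, e2⟩ := third_eq t 1 (third t 0 c)
      obtain ⟨b1, -, e1⟩ := third_eq t 0 (third t 1 (third t 0 c))
      rw [sub_zero] at hb3
      have hb3t : b3 = true := hb3.mpr hc.1.1
      have := h c hc.1.2 hc.2.1 hc.2.2
      rw [e1, e2, e3, e4, hb3t] at this
      simp only [if_true] at this
      refine ⟨(b1, b2, b4), ?_, by linear_combination this⟩
      rcases b1 with _ | _ <;> rcases b2 with _ | _ <;> rcases b4 with _ | _ <;>
        simp [hal] <;> simp only [Bool.false_eq_true, if_true, if_false] at this
      · exact ht2 (by linear_combination -this + (c * t - 2 - c) * ht)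
      · exact htn (by linear_combination -this + (2 - c * t) * ht)
      · exact ht2 (by linear_combination this - (2 - c * t) * ht)
    choose! b hb hbe using hpat
    have hle : S.card ≤ allowed.card := by
      refine Finset.card_le_card_of_injOn b hb ?_
      intro c hc d hd hcd
      have hc' := hbe c hc
      have hd' := hbe d hd
      rw [hcd] at hc'
      have key : (c - d) * ((if (b d).1 then t else 1 - t) * t * (if (b d).2.1 then t else 1 - t)
          - (if (b d).2.2 then t else 1 - t)) = 0 := by linear_combination hc' - hd'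
      apply sub_eq_zero.mp
      refine (mul_eq_zero.mp key).resolve_right ?_
      have hmem := hb d hd
      simp only [hal, Finset.mem_insert, Finset.mem_singleton] at hmem
      rcases hmem with e | e | e | e | e <;> rw [e] <;>
        simp only [Bool.false_eq_true, if_true, if_false] <;> intro e'
      · exact htn (by linear_combination -e' + (t + 1) * ht)
      · exact ht2 (by linear_combination e' - (t + 1) * ht)
      · exact hth (by linear_combination e' + t * ht)
      · exact hth (by linear_combination e' + t * ht)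
      · exact hth (by linear_combination -e' - (1 - t) * ht)
    have hcard : (p - 1) / 2 ≤ S.card + 2 := by
      have := card_squares (p := p) hp4
      have h' := Finset.le_card_sdiff ({1, t} : Finset (ZMod p))
        (Finset.univ.filter fun c : ZMod p => IsSquare c ∧ c ≠ 0)
      have h2' : ({1, t} : Finset (ZMod p)).card ≤ 2 := Finset.card_le_two
      rw [hS]
      omega
    have h5 : allowed.card ≤ 5 := by rw [hal]; exact Finset.card_le_five
    have h15 : p ≠ 15 := fun e => absurd (e ▸ hp.out) (by norm_num)
    omega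

end CfsgLib.HalfNormalizer
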