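import Cfsg.Agent.Lib.HalfNormalizer.Primitive
import Cfsg.Agent.Lib.FGS.DihedralBGroup.Bridge

/-!
Proper even overgroups of `PSL(2, p)` on `p + 1` points are quadruply transitive.
-/

set_option autoImplicit false

namespace CfsgLib.HalfNormalizer

open MulAction

section Affine

variable {G α : Type*} [Group G] [MulAction G α] [FaithfulSMul G α] [Fintype α] [DecidableEq α]
  [IsPretransitive G α] {p : ℕ} [hp : Fact p.Prime]

/-- The Sylow normalizer acts by affine maps in suitable coordinates. -/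
theorem exists_affine_coord (hα : Fintype.card α = p) (P : Sylow p G) :
    ∃ e : ZMod p ≃ α, ∀ n ∈ Subgroup.normalizer ((P : Subgroup G) : Set G),
      ∃ a c : ZMod p, a ≠ 0 ∧ ∀ j, n • e j = e (a * j + c) := by
  haveI := finite_group G α
  obtain ⟨σ, hσo, hP⟩ := CfsgLib.SmallGroups.exists_zpowers_of_card_prime (card_sylow hα P)
  set f := MulAction.toPermHom G α with hf
  have hσ : orderOf (f σ) = p := by rw [orderOf_injective f MulAction.toPerm_injective, hσo]
  obtain ⟨a₀⟩ : Nonempty α := Fintype.card_pos_iff.mp (hα ▸ hp.out.pos)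
  obtain ⟨e, -, he⟩ := CfsgLib.SmallGroups.exists_coord hα hσ a₀
  refine ⟨e, fun n hn => CfsgLib.SmallGroups.coord_of_conj (g := f n) hσ he ?_⟩
  have h1 : n * σ * n⁻¹ ∈ (P : Subgroup G) := (hn σ).mp (hP ▸ Subgroup.mem_zpowers σ)
  rw [hP] at h1
  rw [← map_inv, ← map_mul, ← map_mul, ← MonoidHom.map_zpowers]
  exact Subgroup.mem_map_of_mem f h1

/-- A solvable transitive group of prime degree has a normal Sylow subgroup. -/
theorem sylow_normal_of_solvable (hα : Fintype.card α = p) (P : Sylow p G)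
    (hG : Group.IsSolvable G) : (P : Subgroup G).Normal := by
  haveI := finite_group G α
  haveI := hG
  set f := MulAction.toPermHom G α with hf
  haveI : IsPretransitive f.range α := ⟨fun x y => by
    obtain ⟨g, hg⟩ := exists_smul_eq G x y
    exact ⟨⟨f g, g, rfl⟩, hg⟩⟩
  haveI : Group.IsSolvable f.range := Group.isSolvable_of_surjective (f := f.rangeRestrict) f.rangeRestrict_surjective
  obtain ⟨_, ⟨σ, rfl⟩, hσ, hle⟩ := CfsgLib.SmallGroups.le_normalizer_of_isSolvable hα f.range inferInstance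
  have hfi : Function.Injective f := MulAction.toPerm_injective
  rw [orderOf_injective f hfi] at hσ
  have hn : (Subgroup.zpowers σ).Normal := by
    refine ⟨fun x hx g => ?_⟩
    have h := (hle ⟨g, rfl⟩ (f x)).mp
      (by rw [← MonoidHom.map_zpowers]; exact Subgroup.mem_map_of_mem f hx)
    rw [← map_inv, ← map_mul, ← map_mul, ← MonoidHom.map_zpowers] at h
    obtain ⟨y, hy, hyx⟩ := h
    rwa [← hfi hyx]
  obtain ⟨Q, hQ⟩ := (IsPGroup.of_card (n := 1) (by rw [Nat.card_zpowers, hσ, pow_one])).exists_le_sylow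
    (G := G) (P := Subgroup.zpowers σ)
  have hQeq : Subgroup.zpowers σ = Q :=
    Subgroup.eq_of_le_of_card_ge hQ (by rw [card_sylow hα Q, Nat.card_zpowers, hσ])
  haveI : (Q : Subgroup G).Normal := hQeq ▸ hn
  obtain ⟨g, hg⟩ := exists_smul_eq G Q P
  rw [Sylow.smul_eq_iff_mem_normalizer.mpr (by
    show g ∈ Subgroup.normalizer ((Q : Subgroup G) : Set G)
    rw [Subgroup.normalizer_eq_top_iff.mpr inferInstance]
    exact Subgroup.mem_top g)] at hg
  rw [← hg]
  infer_instance

/-- Prime degree `p ≡ 1 mod 4` with half normalizer: triply transitive. -/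
theorem three_transitive_of_mod_four (hα : Fintype.card α = p) (hp4 : p % 4 = 1)
    (hG : ¬ Group.IsSolvable G) (P : Sylow p G)
    (hN : 2 * Nat.card ↥(Subgroup.normalizer ((P : Subgroup G) : Set G)) = p * (p - 1)) :
    IsMultiplyPretransitive G α 3 := by
  haveI := finite_group G α
  set f := MulAction.toPermHom G α with hf
  haveI : IsPretransitive f.range α := ⟨fun x y => by
    obtain ⟨g, hg⟩ := exists_smul_eq G x y
    exact ⟨⟨f g, g, rfl⟩, hg⟩⟩
  let φ : G ≃* f.range := MonoidHom.ofInjective MulAction.toPerm_injective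
  have hG' : ¬ Group.IsSolvable f.range := fun h => hG
    (Group.isSolvable_of_isSolvable_injective (f := φ.toMonoidHom) φ.injective)
  let P' : Sylow p f.range := P.mapSurjective (f := φ.toMonoidHom) φ.surjective
  have heven : Even (Nat.card (Subgroup.normalizer ((P' : Subgroup f.range) : Set f.range))) := by
    have hc : ((P' : Subgroup f.range)) = (P : Subgroup G).map φ.toMonoidHom := rfl
    rw [hc, ← Subgroup.map_equiv_normalizer_eq,
      ← Nat.card_congr (Subgroup.equivMapOfInjective _ φ.toMonoidHom φ.injective).toEquiv]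
    have h' : p * (p - 1) = 4 * (p * ((p - 1) / 4)) := by
      conv_lhs => rw [show p - 1 = 4 * ((p - 1) / 4) by omega]
      ring
    rw [even_iff_two_dvd]
    exact ⟨p * ((p - 1) / 4), by omega⟩
  have h := Cfsg.Agent.S0676.result hα f.range hG' P' heven
  refine ⟨fun x y => ?_⟩
  obtain ⟨⟨_, g, rfl⟩, hg⟩ := exists_smul_eq f.range x y
  exact ⟨g, hg⟩

end Affine

set_option maxHeartbeats 1000000 in
theorem four_transitive {X Ω : Type*} [Group X] [Finite X] [MulAction X Ω] [FaithfulSMul X Ω]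
    [Fintype Ω] [DecidableEq Ω] {p : ℕ} [hp : Fact p.Prime] (hp7 : 7 < p)
    (hΩ : Fintype.card Ω = p + 1)
    (heven : ∀ x : X, Equiv.Perm.sign (MulAction.toPerm x : Equiv.Perm Ω) = 1)
    (L : Subgroup X) (hLc : 2 * Nat.card L = (p + 1) * (p * (p - 1)))
    (hcent : p % 4 = 3 → ∀ w d : L, orderOf w = 2 → d ^ ((p - 1) / 2) = 1 → w * d = d * w → d = 1)
    (hLt : IsMultiplyPretransitive L Ω 2) (hLX : L ≠ ⊤) :
    IsMultiplyPretransitive X Ω 4 := by
  classical
  have h2L : ∀ {a b c d : Ω}, a ≠ b → c ≠ d → ∃ g : L, g • a = c ∧ g • b = d :=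
    is_two_pretransitive_iff.mp hLt
  haveI : IsPretransitive L Ω := isPretransitive_of_is_two_pretransitive
  haveI : IsPretransitive X Ω := ⟨fun x y => by
    obtain ⟨g, hg⟩ := exists_smul_eq L x y
    exact ⟨g, hg⟩⟩
  obtain ⟨o⟩ : Nonempty Ω := Fintype.card_pos_iff.mp (by omega)
  set G := stabilizer X o with hG
  set F := SubMulAction.ofStabilizer X o with hF
  have hFne : ∀ x : F, (x : Ω) ≠ o := fun x => SubMulAction.neq_of_mem_ofStabilizer X o
  letI : Fintype F := Fintype.ofFinite F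
  haveI : FaithfulSMul G F := ⟨fun {g h} hgh => Subtype.ext (eq_of_smul_eq_smul fun x : Ω => by
    by_cases hx : x = o
    · rw [hx, show (g : X) • o = o from g.2, show (h : X) • o = o from h.2]
    · exact congrArg Subtype.val (hgh ⟨x, hx⟩))⟩
  haveI : IsPretransitive G F := ⟨fun x y => by
    obtain ⟨g, hgo, hg⟩ := h2L (hFne x).symm (hFne y).symm
    exact ⟨⟨g, hgo⟩, Subtype.ext hg⟩⟩
  have hα : Fintype.card F = p := by
    rw [← Nat.card_eq_fintype_card]
    have h : Nat.card F = Nat.card Ω - 1 := SubMulAction.nat_card_ofStabilizer_eq (G := X) o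
    rw [Nat.card_eq_fintype_card (α := Ω), hΩ] at h
    omega
  -- the point stabilizer of L inside G
  set L' : Subgroup G := L.subgroupOf G with hL'
  have hL'c : 2 * Nat.card L' = p * (p - 1) := by
    let E : stabilizer L o ≃ L' :=
      { toFun := fun l => ⟨⟨(l : L), l.2⟩, (l : L).2⟩
        invFun := fun g => ⟨⟨(g : G), g.2⟩, (g : G).2⟩
        left_inv := fun l => rfl
        right_inv := fun g => rfl }
    have h1 := (stabilizer L o).card_mul_index
    rw [index_stabilizer_of_transitive, Nat.card_eq_fintype_card (α := Ω), hΩ, Nat.card_congr E] at h1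
    rw [← h1, ← mul_assoc, mul_comm (2 * Nat.card L')] at hLc
    exact Nat.eq_of_mul_eq_mul_left (by omega) hLc
  have hp2 : p % 2 = 1 := Nat.odd_iff.mp (hp.out.odd_of_ne_two (by omega))
  have hpp : p * (p - 1) = 2 * (p * ((p - 1) / 2)) := by
    conv_lhs => rw [show p - 1 = 2 * ((p - 1) / 2) by omega]
    ring
  obtain ⟨Q⟩ : Nonempty (Sylow p L') := inferInstance
  have hQc : Nat.card (Q : Subgroup L') = p := by
    have hc : Nat.card L' = p * ((p - 1) / 2) := by omega
    have hm0 : (p - 1) / 2 ≠ 0 := by omega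
    rw [Q.card_eq_multiplicity, hc, Nat.factorization_mul hp.out.ne_zero hm0,
      Finsupp.add_apply, hp.out.factorization_self,
      Nat.factorization_eq_zero_of_not_dvd (fun h => by
        have := Nat.le_of_dvd (by omega) h; omega), add_zero, pow_one]
  have hQn : (Q : Subgroup L').Normal := by
    have h1 : Nat.card (Sylow p L') ∣ (Q : Subgroup L').index := Sylow.card_dvd_index Q
    have h2 : Nat.card (Sylow p L') ≡ 1 [MOD p] := card_sylow_modEq_one p L'
    have h3 : (Q : Subgroup L').index = (p - 1) / 2 := by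
      have := (Q : Subgroup L').card_mul_index
      rw [hQc] at this
      exact Nat.eq_of_mul_eq_mul_left hp.out.pos (by omega)
    rw [h3] at h1
    have h4 := Nat.le_of_dvd (by omega) h1
    have h5 : Nat.card (Sylow p L') = 1 := by
      rw [Nat.ModEq, Nat.mod_eq_of_lt (by omega), Nat.mod_eq_of_lt (by omega)] at h2
      exact h2
    haveI : Subsingleton (Sylow p L') := (Nat.card_eq_one_iff_unique.mp h5).1
    exact Sylow.normal_of_subsingleton Q
  set P₀ : Subgroup G := (Q : Subgroup L').map L'.subtype with hP₀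
  have hP₀c : Nat.card P₀ = p := by
    rw [hP₀, Subgroup.card_subtype, hQc]
  obtain ⟨P, hP⟩ := (IsPGroup.of_card (n := 1) (by rw [hP₀c, pow_one]) : IsPGroup p P₀).exists_le_sylow
  have hPeq : P₀ = (P : Subgroup G) :=
    Subgroup.eq_of_le_of_card_ge hP (by rw [card_sylow hα P, hP₀c])
  set N := Subgroup.normalizer ((P : Subgroup G) : Set G) with hNdef
  have hL'N : L' ≤ N := by
    intro l hl x
    rw [← hPeq, hP₀]
    constructor
    · rintro ⟨y, hy, rfl⟩
      exact ⟨⟨l, hl⟩ * y * ⟨l, hl⟩⁻¹, hQn.conj_mem y hy _, rfl⟩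
    · rintro ⟨y, hy, hyx⟩
      refine ⟨⟨l, hl⟩⁻¹ * y * ⟨l, hl⟩, ?_, ?_⟩
      · have := hQn.conj_mem y hy ⟨l, hl⟩⁻¹
        rwa [inv_inv] at this
      · show (l : G)⁻¹ * L'.subtype y * l = x
        rw [hyx]; group
  obtain ⟨e, hcoord⟩ := exists_affine_coord hα P
  -- the normalizer is not larger, as all permutations are even
  have hN : 2 * Nat.card N = p * (p - 1) := by
    let Φ : N → ((Finset.univ : Finset F).offDiag : Set (F × F)) := fun n =>
      ⟨((n : G) • e 0, (n : G) • e 1), by simp⟩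
    have hΦ : Function.Injective Φ := by
      intro n k h
      simp only [Φ, Subtype.mk.injEq, Prod.mk.injEq] at h
      obtain ⟨a, c, -, hn⟩ := hcoord n n.2
      obtain ⟨a', c', -, hk⟩ := hcoord k k.2
      rw [hn, hn, hk, hk, e.apply_eq_iff_eq, e.apply_eq_iff_eq] at h
      refine Subtype.ext (eq_of_smul_eq_smul fun x : F => ?_)
      obtain ⟨j, rfl⟩ := e.surjective x
      rw [hn, hk]
      congr 1
      linear_combination (1 - j) * h.1 + j * h.2
    have hoff : Nat.card ((Finset.univ : Finset F).offDiag : Set (F × F)) = p * (p - 1) := by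
      rw [Nat.card_coe_set_eq, Set.ncard_coe_finset, Finset.offDiag_card, Finset.card_univ, hα, Nat.mul_sub_one]
    have hle : Nat.card N ≤ p * (p - 1) := hoff ▸ Nat.card_le_card_of_injective Φ hΦ
    obtain ⟨j, hj⟩ := Subgroup.card_dvd_of_le hL'N
    have hpos : 0 < Nat.card L' := Nat.card_pos
    have hNpos : 0 < Nat.card N := Nat.card_pos
    have hj2 : j = 1 ∨ j = 2 := by
      have : Nat.card L' * j ≤ Nat.card L' * 2 := by omega
      have := Nat.le_of_mul_le_mul_left this hpos
      have : j ≠ 0 := by rintro rfl; omega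
      omega
    rcases hj2 with rfl | rfl
    · rw [hj, mul_one, hL'c]
    exfalso
    haveI : NeZero p := ⟨hp.out.ne_zero⟩
    obtain ⟨g, hg⟩ := IsCyclic.exists_generator (α := (ZMod p)ˣ)
    have hbij : Function.Bijective Φ :=
      (Nat.bijective_iff_injective_and_card _).mpr ⟨hΦ, by rw [hoff, hj]; omega⟩
    have hg0 : (g : ZMod p) ≠ 0 := g.ne_zero
    obtain ⟨n, hn⟩ := hbij.2 ⟨(e 0, e g), by simp [e.apply_eq_iff_eq, hg0.symm]⟩
    simp only [Φ, Subtype.mk.injEq, Prod.mk.injEq] at hn
    obtain ⟨a, c, -, hac⟩ := hcoord n n.2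
    rw [hac, hac, e.apply_eq_iff_eq, e.apply_eq_iff_eq] at hn
    have hmul : ∀ j : ZMod p, (n : G) • e j = e (g * j) := fun j => by
      rw [hac]; congr 1; linear_combination (1 - j) * hn.1 + j * hn.2
    set π : Equiv.Perm Ω := MulAction.toPerm ((n : G) : X) with hπ
    have hπe : ∀ j, π (e j : Ω) = (e (g * j) : Ω) := fun j => congrArg Subtype.val (hmul j)
    have hπo : π o = o := (n : G).2
    have hgord : g ≠ 1 := by
      intro h1
      have h3 : ∀ u : (ZMod p)ˣ, u = 1 := fun u => by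
        obtain ⟨k, hk⟩ := Subgroup.mem_zpowers_iff.mp (hg u)
        rw [← hk, h1, one_zpow]
      haveI : Subsingleton (ZMod p)ˣ := ⟨fun a b => (h3 a).trans (h3 b).symm⟩
      have := Fintype.card_le_one_iff_subsingleton.mpr ‹Subsingleton (ZMod p)ˣ›
      rw [ZMod.card_units] at this
      omega
    have hsupp : ∀ x : Ω, π x ≠ x ↔ ∃ u : (ZMod p)ˣ, x = (e u : Ω) := by
      intro x
      constructor
      · intro hx
        have hxo : x ≠ o := fun h => hx (by rw [h, hπo])
        obtain ⟨j, hj⟩ := e.surjective ⟨x, hxo⟩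
        have hxj : x = (e j : Ω) := (congrArg Subtype.val hj).symm
        refine ⟨Units.mk0 j fun h => hx ?_, hxj⟩
        rw [hxj, hπe, h, mul_zero]
      · rintro ⟨u, rfl⟩ h
        rw [hπe, SetLike.coe_eq_coe, e.apply_eq_iff_eq, mul_eq_right₀ u.ne_zero] at h
        exact hgord (Units.ext h)
    have hpow : ∀ (k : ℕ) (j : ZMod p), (π ^ k) (e j : Ω) = (e ((g : ZMod p) ^ k * j) : Ω) := by
      intro k
      induction k with
      | zero => intro j; simp
      | succ k ih => intro j; rw [pow_succ', Equiv.Perm.mul_apply, ih, hπe, pow_succ', mul_assoc]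
    have hcyc : π.IsCycle := by
      refine ⟨(e 1 : Ω), (hsupp _).mpr ⟨1, by rw [Units.val_one]⟩, fun y hy => ?_⟩
      obtain ⟨u, rfl⟩ := (hsupp y).mp hy
      obtain ⟨k, hk⟩ := (Submonoid.mem_powers_iff _ _).mp (mem_powers_iff_mem_zpowers.mpr (hg u))
      refine ⟨k, ?_⟩
      rw [zpow_natCast, hpow, mul_one, ← Units.val_pow_eq_pow_val, hk]
    have hcard : π.support.card = p - 1 := by
      have : π.support = Finset.univ.image (fun u : (ZMod p)ˣ => (e u : Ω)) := by
        ext x
        simp [Equiv.Perm.mem_support, hsupp, eq_comm]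
      rw [this, Finset.card_image_of_injective _ fun u v h =>
        Units.ext (e.injective (Subtype.ext h)), Finset.card_univ, ZMod.card_units]
    have hs := heven ((n : G) : X)
    rw [← hπ, hcyc.sign, hcard, Even.neg_one_pow (by rw [Nat.even_iff]; omega)] at hs
    exact absurd hs (by decide)
  have hins : ¬ Group.IsSolvable G := by
    intro h
    apply hLX
    have hn := sylow_normal_of_solvable hα P h
    have hGc : Nat.card G = Nat.card N := by
      rw [hNdef, Subgroup.normalizer_eq_top_iff.mpr hn, Subgroup.card_top]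
    apply Subgroup.eq_top_of_card_eq
    have h1 := G.card_mul_index
    rw [index_stabilizer_of_transitive, Nat.card_eq_fintype_card (α := Ω), hΩ, hGc] at h1
    rw [← h1]
    have : 2 * Nat.card L = 2 * (Nat.card N * (p + 1)) := by rw [hLc, ← hN]; ring
    omega
  have h4iff : IsMultiplyPretransitive X Ω 4 ↔ IsMultiplyPretransitive G F 3 :=
    SubMulAction.ofStabilizer.isMultiplyPretransitive (n := 3) (a := o)
  rw [h4iff]
  rcases Nat.odd_mod_four_iff.mp hp2 with hp4 | hp4
  · exact three_transitive_of_mod_four hα hp4 hins P hN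
  by_contra h3
  have hfour := (three_transitive_or_four hα (by omega) hins P hN).resolve_left h3
  set z : F := e 0 with hz
  set one : F := e 1 with hone
  have hzone : z ≠ one := e.injective.ne zero_ne_one
  have hprim := stabilizer_preprimitive hα hp7 hins P hN z
  -- the dihedral group
  set m := (p - 1) / 2 with hm
  have hm1 : m % 2 = 1 := by omega
  haveI : NeZero m := ⟨by omega⟩
  set DL : Subgroup L := stabilizer L o ⊓ stabilizer L (z : Ω) with hDL
  have hDaff : ∀ d ∈ DL, ∃ a : ZMod p, a ≠ 0 ∧ ∀ j, (d : X) • (e j : Ω) = (e (a * j) : Ω) := by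
    intro d hd
    have hdo : (d : X) • o = o := hd.1
    obtain ⟨a, c, ha, hac⟩ := hcoord ⟨d, hdo⟩ (hL'N d.2)
    have hc : c = 0 := by
      have h0 : (⟨(d : X), hdo⟩ : G) • e 0 = e 0 := Subtype.ext hd.2
      rw [hac, e.apply_eq_iff_eq, mul_zero, zero_add] at h0
      exact h0
    exact ⟨a, ha, fun j => by
      have := congrArg Subtype.val (hac j)
      rw [hc, add_zero] at this
      exact this⟩
  have hDfree : ∀ d ∈ DL, ∀ x : Ω, x ≠ o → x ≠ (z : Ω) → d • x = x → d = 1 := by
    intro d hd x hxo hxz hdx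
    obtain ⟨a, -, ha⟩ := hDaff d hd
    obtain ⟨j, hj⟩ := e.surjective ⟨x, hxo⟩
    have hxj : x = (e j : Ω) := (congrArg Subtype.val hj).symm
    have hj0 : j ≠ 0 := fun h => hxz (by rw [hxj, h])
    have ha1 : a = 1 := by
      have h1 : (d : X) • x = x := hdx
      rw [hxj, ha, SetLike.coe_eq_coe, e.apply_eq_iff_eq, mul_eq_right₀ hj0] at h1
      exact h1
    refine Subtype.ext (eq_of_smul_eq_smul fun y : Ω => ?_)
    rw [OneMemClass.coe_one, one_smul]
    by_cases hyo : y = o
    · rw [hyo]; exact hd.1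
    · obtain ⟨i, hi⟩ := e.surjective ⟨y, hyo⟩
      rw [show y = (e i : Ω) from (congrArg Subtype.val hi).symm, ha, ha1, one_mul]
  haveI hDcyc : IsCyclic DL := by
    choose A hA0 hA using hDaff
    let χ : DL →* ZMod p :=
      { toFun := fun d => A d d.2
        map_one' := by
          have h := hA 1 (one_mem DL) 1
          rw [OneMemClass.coe_one, one_smul, SetLike.coe_eq_coe, e.apply_eq_iff_eq, mul_one] at h
          exact h.symm
        map_mul' := fun c d => by
          have h := hA ((c * d : DL) : L) (c * d).2 1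
          set v := A ((c * d : DL) : L) (c * d).2
          rw [Subgroup.coe_mul, Subgroup.coe_mul, mul_smul, hA d d.2, hA c c.2, SetLike.coe_eq_coe,
            e.apply_eq_iff_eq, mul_one, mul_one] at h
          exact h.symm }
    refine isCyclic_of_injective χ.toHomUnits fun c d h => ?_
    have h' : A c c.2 = A d d.2 := congrArg Units.val h
    refine Subtype.ext (Subtype.ext (eq_of_smul_eq_smul fun y : Ω => ?_))
    by_cases hyo : y = o
    · rw [hyo, show ((c : L) : X) • o = o from c.2.1, show ((d : L) : X) • o = o from d.2.1]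
    · obtain ⟨i, hi⟩ := e.surjective ⟨y, hyo⟩
      rw [show y = (e i : Ω) from (congrArg Subtype.val hi).symm, hA c c.2, hA d d.2, h']
  have hzo : (z : Ω) ≠ o := hFne z
  have hDc : Nat.card DL = m := by
    haveI : IsPretransitive (stabilizer L o) (SubMulAction.ofStabilizer L o) := ⟨fun x y => by
      obtain ⟨g, hgo, hg⟩ := h2L (SubMulAction.neq_of_mem_ofStabilizer L o (x := x)).symm
        (SubMulAction.neq_of_mem_ofStabilizer L o (x := y)).symm
      exact ⟨⟨g, hgo⟩, Subtype.ext hg⟩⟩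
    let z' : SubMulAction.ofStabilizer L o := ⟨(z : Ω), hzo⟩
    let E : stabilizer (stabilizer L o) z' ≃ DL :=
      { toFun := fun d => ⟨((d : stabilizer L o) : L), (d : stabilizer L o).2, congrArg Subtype.val d.2⟩
        invFun := fun d => ⟨⟨(d : L), d.2.1⟩, Subtype.ext d.2.2⟩
        left_inv := fun d => rfl
        right_inv := fun d => rfl }
    have h1 := (stabilizer L o).card_mul_index
    rw [index_stabilizer_of_transitive, Nat.card_eq_fintype_card (α := Ω), hΩ] at h1
    have h2 := (stabilizer (stabilizer L o) z').card_mul_index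
    rw [index_stabilizer_of_transitive, SubMulAction.nat_card_ofStabilizer_eq,
      Nat.card_eq_fintype_card (α := Ω), hΩ, Nat.card_congr E, Nat.add_sub_cancel] at h2
    rw [← h1, ← h2] at hLc
    apply Nat.eq_of_mul_eq_mul_left (show 0 < 2 * (p * (p + 1)) by positivity)
    have : (p + 1) * (p * (p - 1)) = 2 * (p * (p + 1)) * m := by
      rw [show p - 1 = 2 * m by omega]; ring
    rw [← this, ← hLc]; ring
  have hfpf : ∀ l : L, orderOf l = 2 → ∀ x : Ω, l • x ≠ x := by
    intro l hl x hx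
    have hd : orderOf (⟨l, hx⟩ : stabilizer L x) ∣ Nat.card (stabilizer L x) := orderOf_dvd_natCard _
    rw [← Subgroup.orderOf_coe, hl] at hd
    have h1 := (stabilizer L x).card_mul_index
    rw [index_stabilizer_of_transitive, Nat.card_eq_fintype_card (α := Ω), hΩ] at h1
    rw [← h1] at hLc
    have h5 : 2 * Nat.card (stabilizer L x) = 2 * (p * m) := by
      apply Nat.eq_of_mul_eq_mul_right (show 0 < p + 1 by omega)
      rw [mul_assoc, hLc, show p - 1 = 2 * m by omega]; ring
    have h6 : Odd (Nat.card (stabilizer L x)) := by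
      rw [show Nat.card (stabilizer L x) = p * m by omega]
      exact (Nat.odd_iff.mpr hp2).mul (Nat.odd_iff.mpr hm1)
    exact (Nat.not_even_iff_odd.mpr h6) (even_iff_two_dvd.mpr hd)
  obtain ⟨w₀, hw₀o, hw₀z⟩ := h2L hzo.symm hzo
  have hw₀2 : w₀ * w₀ ∈ DL :=
    ⟨by show _ • o = o; rw [mul_smul, hw₀o, hw₀z],
      by show _ • (z : Ω) = (z : Ω); rw [mul_smul, hw₀z, hw₀o]⟩
  have hw₀m : (w₀ * w₀) ^ m = 1 := by
    have : (⟨_, hw₀2⟩ : DL) ^ m = 1 := hDc ▸ pow_card_eq_one'
    exact congrArg Subtype.val this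
  set w := w₀ ^ m with hw
  have hwo : w • o = (z : Ω) := by
    obtain ⟨k, hk⟩ : ∃ k, m = 2 * k + 1 := ⟨m / 2, by omega⟩
    rw [hw, hk, pow_succ, pow_mul, mul_smul, hw₀o, pow_two]
    exact (pow_mem hw₀2 k).2
  have hwz : w • (z : Ω) = o := by
    obtain ⟨k, hk⟩ : ∃ k, m = 2 * k + 1 := ⟨m / 2, by omega⟩
    rw [hw, hk, pow_succ, pow_mul, mul_smul, hw₀z, pow_two]
    exact (pow_mem hw₀2 k).1
  have hw2 : w * w = 1 := by rw [hw, ← (Commute.refl w₀).mul_pow, hw₀m]
  have hword : orderOf w = 2 := orderOf_eq_prime (by rw [pow_two, hw2]) fun h => hzo (by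
    rw [← hwo, h, one_smul])
  have hwD : ∀ d ∈ DL, w * d * w ∈ DL := fun d hd =>
    ⟨by show _ • o = o; rw [mul_smul, mul_smul, hwo, show d • (z : Ω) = z from hd.2, hwz],
      by show _ • (z : Ω) = (z : Ω); rw [mul_smul, mul_smul, hwz, show d • o = o from hd.1, hwo]⟩
  have hinv : ∀ d ∈ DL, w * d * w = d⁻¹ := by
    intro d hd
    have hcomm : d * (w * d * w) = (w * d * w) * d := by
      letI : CommGroup DL := IsCyclic.commGroup
      exact congrArg Subtype.val (mul_comm (⟨d, hd⟩ : DL) ⟨_, hwD d hd⟩)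
    have hx1 : (d * (w * d * w)) ^ m = 1 := by
      have : (⟨_, mul_mem hd (hwD d hd)⟩ : DL) ^ m = 1 := hDc ▸ pow_card_eq_one'
      exact congrArg Subtype.val this
    have hxw : w * (d * (w * d * w)) = (d * (w * d * w)) * w := by
      calc w * (d * (w * d * w)) = (w * d * w) * d * w := by group
        _ = _ := by rw [← hcomm]
    exact eq_inv_of_mul_eq_one_right (hcent hp4 w _ hword hx1 hxw)
  obtain ⟨d₀, hd₀⟩ := hDcyc.exists_generator
  have hd₀o : orderOf (d₀ : L) = m := by
    rw [Subgroup.orderOf_coe, orderOf_eq_card_of_forall_mem_zpowers hd₀, hDc]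
  -- the setwise stabilizer of the two points
  let Gh : Subgroup X :=
    { carrier := {g | (g • o = o ∧ g • (z : Ω) = z) ∨ (g • o = (z : Ω) ∧ g • (z : Ω) = o)}
      one_mem' := Or.inl ⟨one_smul _ _, one_smul _ _⟩
      mul_mem' := by
        rintro g h (⟨g1, g2⟩ | ⟨g1, g2⟩) (⟨h1, h2⟩ | ⟨h1, h2⟩)
        · exact Or.inl ⟨by rw [mul_smul, h1, g1], by rw [mul_smul, h2, g2]⟩
        · exact Or.inr ⟨by rw [mul_smul, h1, g2], by rw [mul_smul, h2, g1]⟩
        · exact Or.inr ⟨by rw [mul_smul, h1, g1], by rw [mul_smul, h2, g2]⟩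
        · exact Or.inl ⟨by rw [mul_smul, h1, g2], by rw [mul_smul, h2, g1]⟩
      inv_mem' := by
        rintro g (⟨g1, g2⟩ | ⟨g1, g2⟩)
        · exact Or.inl ⟨inv_smul_eq_iff.mpr g1.symm, inv_smul_eq_iff.mpr g2.symm⟩
        · exact Or.inr ⟨inv_smul_eq_iff.mpr g2.symm, inv_smul_eq_iff.mpr g1.symm⟩ }
  let Fs : SubMulAction Gh Ω :=
    { carrier := {x | x ≠ o ∧ x ≠ (z : Ω)}
      smul_mem' := by
        rintro ⟨g, hg⟩ x ⟨hxo, hxz⟩
        rcases hg with ⟨g1, g2⟩ | ⟨g1, g2⟩
        · exact ⟨fun h => hxo (MulAction.injective g (h.trans g1.symm)),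
            fun h => hxz (MulAction.injective g (h.trans g2.symm))⟩
        · exact ⟨fun h => hxz (MulAction.injective g (h.trans g2.symm)),
            fun h => hxo (MulAction.injective g (h.trans g1.symm))⟩ }
  let φ : stabilizer G z →* Gh :=
    { toFun := fun g => ⟨((g : G) : X), Or.inl ⟨(g : G).2, congrArg Subtype.val g.2⟩⟩
      map_one' := rfl
      map_mul' := fun _ _ => rfl }
  let fmap : SubMulAction.ofStabilizer G z →ₑ[⇑φ] Fs :=
    { toFun := fun x => ⟨((x : F) : Ω), hFne _,
        fun h => SubMulAction.neq_of_mem_ofStabilizer G z (Subtype.ext h)⟩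
      map_smul' := fun g x => rfl }
  haveI := hprim
  have hprimGh : IsPreprimitive Gh Fs := IsPreprimitive.of_surjective (f := fmap) (fun y => by
    refine ⟨⟨⟨y, y.2.1⟩, ?_⟩, rfl⟩
    exact fun h => y.2.2 (congrArg Subtype.val h))
  have hwGh : (w : X) ∈ Gh := Or.inr ⟨hwo, hwz⟩
  have hd₀Gh : ((d₀ : L) : X) ∈ Gh := Or.inl ⟨d₀.2.1, d₀.2.2⟩
  -- the dihedral subgroup as a homomorphic image
  let ρ : ZMod m → L := fun i => (d₀ : L) ^ i.val
  have hρmod : ∀ k : ℕ, (d₀ : L) ^ k = ρ (k : ZMod m) := fun k => by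
    show _ = (d₀ : L) ^ (k : ZMod m).val
    rw [ZMod.val_natCast, ← hd₀o, pow_mod_orderOf]
  have hρ0 : ρ 0 = 1 := by simp [ρ]
  have hρadd : ∀ i j, ρ (i + j) = ρ i * ρ j := fun i j => by
    show _ = (d₀ : L) ^ i.val * (d₀ : L) ^ j.val
    rw [← pow_add, hρmod, Nat.cast_add, ZMod.natCast_zmod_val, ZMod.natCast_zmod_val]
  have hρmem : ∀ i, ρ i ∈ DL := fun i => pow_mem d₀.2 _
  have hρneg : ∀ i, ρ (-i) = (ρ i)⁻¹ := fun i =>
    eq_inv_of_mul_eq_one_left (by rw [← hρadd, neg_add_cancel, hρ0])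
  have hwρ : ∀ i, ρ i * w = w * ρ (-i) := fun i => by
    rw [hρneg, ← hinv _ (hρmem i), ← mul_assoc, ← mul_assoc, hw2, one_mul]
  let τ : DihedralGroup m → L := fun x => match x with
    | .r i => ρ i
    | .sr i => w * ρ i
  let ψL : DihedralGroup m →* L :=
    { toFun := τ
      map_one' := hρ0
      map_mul' := by
        rintro (i | i) (j | j)
        · exact hρadd i j
        · show w * ρ (j - i) = ρ i * (w * ρ j)
          rw [← mul_assoc, hwρ, mul_assoc, ← hρadd, neg_add_eq_sub]
        · show w * ρ (i + j) = w * ρ i * ρ j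
          rw [hρadd, mul_assoc]
        · show ρ (j - i) = w * ρ i * (w * ρ j)
          rw [mul_assoc, ← mul_assoc (ρ i), hwρ, mul_assoc w (ρ (-i)), ← mul_assoc, hw2, one_mul,
            ← hρadd, neg_add_eq_sub] }
  have hψGh : ∀ x, (ψL x : X) ∈ Gh := by
    rintro (i | i)
    · exact Or.inl ⟨(hρmem i).1, (hρmem i).2⟩
    · exact mul_mem hwGh (Or.inl ⟨(hρmem i).1, (hρmem i).2⟩)
  let ψ : DihedralGroup m →* Gh := (L.subtype.comp ψL).codRestrict Gh hψGh
  have hψfree : ∀ x, ∀ y : Fs, ψ x • y = y → x = 1 := by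
    intro x y h
    have h' : ψL x • (y : Ω) = (y : Ω) := congrArg Subtype.val h
    cases x with
    | r i =>
      have h1 : ρ i = 1 := hDfree _ (hρmem i) _ y.2.1 y.2.2 h'
      have h2 : (i.val) = 0 := Nat.eq_zero_of_dvd_of_lt
        (hd₀o.symm.dvd.trans (orderOf_dvd_of_pow_eq_one h1)) (ZMod.val_lt i)
      rw [ZMod.val_eq_zero] at h2
      rw [h2]; rfl
    | sr i =>
      exfalso
      refine hfpf (w * ρ i) ?_ _ h'
      refine orderOf_eq_prime ?_ fun h1 => ?_
      · show (ψL (.sr i)) ^ 2 = 1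
        rw [← map_pow, pow_two, DihedralGroup.sr_mul_self, map_one]
      · have h2 : w • o = o := by
          have h3 : w = (ρ i)⁻¹ := eq_inv_of_mul_eq_one_left h1
          rw [h3]
          exact (inv_mem (hρmem i)).1
        exact hzo (hwo.symm.trans h2)
  have hψinj : Function.Injective ψ := by
    intro x y h
    have honeF : (one : Ω) ≠ (z : Ω) := fun h' => hzone (Subtype.ext h'.symm)
    have := hψfree (x⁻¹ * y) ⟨(one : Ω), hFne one, honeF⟩ (by
      rw [map_mul, map_inv, h, inv_mul_cancel, one_smul])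
    exact inv_mul_eq_one.mp this
  set D := ψ.range with hD
  have hFsc : Nat.card Fs = 2 * m := by
    have hset : Nat.card Fs = ({o, (z : Ω)} : Set Ω)ᶜ.ncard := by
      rw [← Nat.card_coe_set_eq]
      exact Nat.card_congr (Equiv.setCongr (by ext x; simp [Fs]; rfl))
    rw [hset, Set.ncard_compl, Set.ncard_pair hzo.symm, Nat.card_eq_fintype_card, hΩ]
    omega
  have hDt : IsPretransitive D Fs := by
    refine ⟨fun a b => ?_⟩
    have hinj : Function.Injective fun x => ψ x • a := fun x y h => by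
      refine inv_mul_eq_one.mp (hψfree (x⁻¹ * y) a ?_)
      rw [map_mul, map_inv, mul_smul, inv_smul_eq_iff]
      exact h.symm
    have hbij := (Nat.bijective_iff_injective_and_card _).mpr
      ⟨hinj, by rw [DihedralGroup.nat_card, hFsc]⟩
    obtain ⟨x, hx⟩ := hbij.2 b
    exact ⟨⟨ψ x, x, rfl⟩, hx⟩
  have hDr : ∀ a : Fs, stabilizer D a = ⊥ := fun a => by
    rw [eq_bot_iff]
    rintro ⟨_, x, rfl⟩ hx
    exact Subgroup.mem_bot.mpr (Subtype.ext ((congrArg ψ (hψfree x a hx)).trans (map_one ψ)))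
  haveI : Finite Fs := Finite.of_injective (fun x => (x : Ω)) Subtype.val_injective
  have h2Gh := CfsgLib.FGS.DihedralBGroup.two_transitive hprimGh D m
    ⟨(MonoidHom.ofInjective hψinj).symm⟩ hDt hDr
  -- but the two classes have sizes of different parity
  set H := stabilizer G z ⊓ stabilizer G one with hH
  letI : Fintype (orbitRel.Quotient H F) := Fintype.ofFinite _
  let π : F → orbitRel.Quotient H F := fun x => Quotient.mk'' x
  have horb : ∀ x y, π x = π y → ∃ h ∈ H, h • y = x := fun x y hxy => by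
    obtain ⟨⟨h, hh⟩, hhy⟩ := Quotient.exact' hxy
    exact ⟨h, hh, hhy⟩
  have hfixz : ∀ x, π x = π z → x = z := fun x h => by
    obtain ⟨k, hk, hkx⟩ := horb _ _ h
    exact hkx.symm.trans hk.1
  have hfix1 : ∀ x, π x = π one → x = one := fun x h => by
    obtain ⟨k, hk, hkx⟩ := horb _ _ h
    exact hkx.symm.trans hk.2
  have hHq := hfour z one hzone
  rw [← hH, Nat.card_eq_fintype_card] at hHq
  obtain ⟨qA, qB, hAB, hqall, hqA, hqB⟩ : ∃ qA qB, qA ≠ qB ∧
      (∀ q, q = π z ∨ q = π one ∨ q = qA ∨ q = qB) ∧ (qA ≠ π z ∧ qA ≠ π one) ∧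
      (qB ≠ π z ∧ qB ≠ π one) := by
    have hne : π z ≠ π one := fun h => hzone (hfix1 z h)
    have hc : ((Finset.univ : Finset (orbitRel.Quotient H F)) \ {π z, π one}).card = 2 := by
      rw [Finset.card_sdiff_of_subset (Finset.subset_univ _), Finset.card_univ, hHq,
        Finset.card_pair hne]
    obtain ⟨qA, qB, hAB, hset⟩ := Finset.card_eq_two.mp hc
    have hA : qA ∈ (Finset.univ : Finset (orbitRel.Quotient H F)) \ {π z, π one} := by
      rw [hset]; simp
    have hB : qB ∈ (Finset.univ : Finset (orbitRel.Quotient H F)) \ {π z, π one} := by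
      rw [hset]; simp
    simp only [Finset.mem_sdiff, Finset.mem_univ, true_and, Finset.mem_insert, Finset.mem_singleton,
      not_or] at hA hB
    refine ⟨qA, qB, hAB, fun q => ?_, hA, hB⟩
    by_cases h1 : q = π z
    · exact Or.inl h1
    by_cases h2 : q = π one
    · exact Or.inr (Or.inl h2)
    have : q ∈ ({qA, qB} : Finset _) := by
      rw [← hset]
      simp [h1, h2]
    simp only [Finset.mem_insert, Finset.mem_singleton] at this
    tauto
  set A := Finset.univ.filter fun x : F => π x = qA with hA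
  set B := Finset.univ.filter fun x : F => π x = qB with hB
  have hsize : A.card + B.card + 2 = p := by
    have hu : A ∪ B ∪ {z, one} = Finset.univ := Finset.eq_univ_iff_forall.mpr fun x => by
      simp only [hA, hB, Finset.mem_union, Finset.mem_filter, Finset.mem_univ, true_and,
        Finset.mem_insert, Finset.mem_singleton]
      rcases hqall (π x) with h | h | h | h
      · exact Or.inr (Or.inl (hfixz x h))
      · exact Or.inr (Or.inr (hfix1 x h))
      · exact Or.inl (Or.inl h)
      · exact Or.inl (Or.inr h)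
    have hd1 : Disjoint A B := Finset.disjoint_filter.mpr fun x _ h1 h2 => hAB (h1.symm.trans h2)
    have hd2 : Disjoint (A ∪ B) {z, one} := by
      rw [Finset.disjoint_right]
      intro x hx
      simp only [Finset.mem_insert, Finset.mem_singleton] at hx
      simp only [hA, hB, Finset.mem_union, Finset.mem_filter, Finset.mem_univ, true_and, not_or]
      rcases hx with rfl | rfl
      · exact ⟨Ne.symm hqA.1, Ne.symm hqB.1⟩
      · exact ⟨Ne.symm hqA.2, Ne.symm hqB.2⟩
    rw [← hα, ← Finset.card_univ, ← hu, Finset.card_union_of_disjoint hd2,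
      Finset.card_union_of_disjoint hd1, Finset.card_pair hzone]
  obtain ⟨xA, hxA⟩ := Quotient.mk''_surjective qA
  obtain ⟨xB, hxB⟩ := Quotient.mk''_surjective qB
  have hnot : ∀ x : F, π x ≠ π z → π x ≠ π one → (x : Ω) ≠ o ∧ (x : Ω) ≠ (z : Ω) ∧ x ≠ one :=
    fun x h1 h2 => ⟨hFne x, fun h => h1 (by rw [show x = z from Subtype.ext h]),
      fun h => h2 (by rw [h])⟩
  have hpA := hnot xA (fun h => hqA.1 (hxA.symm.trans h)) (fun h => hqA.2 (hxA.symm.trans h))
  have hpB := hnot xB (fun h => hqB.1 (hxB.symm.trans h)) (fun h => hqB.2 (hxB.symm.trans h))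
  have honeF : (one : Ω) ≠ (z : Ω) := fun h' => hzone (Subtype.ext h'.symm)
  let uone : Fs := ⟨(one : Ω), hFne one, honeF⟩
  let uA : Fs := ⟨(xA : Ω), hpA.1, hpA.2.1⟩
  let uB : Fs := ⟨(xB : Ω), hpB.1, hpB.2.1⟩
  have hne : ∀ x : F, ∀ h : (x : Ω) ≠ o ∧ (x : Ω) ≠ (z : Ω), x ≠ one →
      uone ≠ (⟨(x : Ω), h⟩ : Fs) := fun x h hx h' =>
    hx (Subtype.ext (congrArg Subtype.val h').symm)
  obtain ⟨⟨g, hg⟩, hg1, hgAB⟩ := (is_two_pretransitive_iff.mp h2Gh)
    (hne xA ⟨hpA.1, hpA.2.1⟩ hpA.2.2) (hne xB ⟨hpB.1, hpB.2.1⟩ hpB.2.2)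
  have hg1' : g • (one : Ω) = one := congrArg Subtype.val hg1
  have hgAB' : g • (xA : Ω) = xB := congrArg Subtype.val hgAB
  rcases hg with ⟨hgo, hgz⟩ | ⟨hgo, hgz⟩
  · have hgH : (⟨g, hgo⟩ : G) ∈ H := ⟨Subtype.ext hgz, Subtype.ext hg1'⟩
    apply hAB
    rw [← hxA, ← hxB]
    have h' : π xB = π xA := Quotient.sound' ⟨⟨_, hgH⟩, Subtype.ext hgAB'⟩
    exact h'.symm
  · -- `g` interchanges the two classes
    have hconj : ∀ k ∈ H, g * (k : X) * g⁻¹ ∈ G := by
      intro k hk
      show _ • o = o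
      rw [mul_smul, mul_smul, inv_smul_eq_iff.mpr hgz.symm,
        show (k : X) • (z : Ω) = z from congrArg Subtype.val hk.1, hgz]
    have hconjH : ∀ k (hk : k ∈ H), (⟨_, hconj k hk⟩ : G) ∈ H := by
      intro k hk
      refine ⟨Subtype.ext ?_, Subtype.ext ?_⟩
      · show (g * (k : X) * g⁻¹) • (z : Ω) = z
        rw [mul_smul, mul_smul, inv_smul_eq_iff.mpr hgo.symm, show (k : X) • o = o from k.2, hgo]
      · show (g * (k : X) * g⁻¹) • (one : Ω) = one
        rw [mul_smul, mul_smul, inv_smul_eq_iff.mpr hg1'.symm,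
          show (k : X) • (one : Ω) = one from congrArg Subtype.val hk.2, hg1']
    have hconj' : ∀ k ∈ H, g⁻¹ * (k : X) * g ∈ G := by
      intro k hk
      show _ • o = o
      rw [mul_smul, mul_smul, hgo, show (k : X) • (z : Ω) = z from congrArg Subtype.val hk.1,
        inv_smul_eq_iff.mpr hgo.symm]
    have hconjH' : ∀ k (hk : k ∈ H), (⟨_, hconj' k hk⟩ : G) ∈ H := by
      intro k hk
      refine ⟨Subtype.ext ?_, Subtype.ext ?_⟩
      · show (g⁻¹ * (k : X) * g) • (z : Ω) = z
        rw [mul_smul, mul_smul, hgz, show (k : X) • o = o from k.2, inv_smul_eq_iff.mpr hgz.symm]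
      · show (g⁻¹ * (k : X) * g) • (one : Ω) = one
        rw [mul_smul, mul_smul, hg1', show (k : X) • (one : Ω) = one from congrArg Subtype.val hk.2,
          inv_smul_eq_iff.mpr hg1'.symm]
    have hmemA : ∀ x : F, x ∈ A ↔ ∃ k ∈ H, (k : X) • (xA : Ω) = x := fun x => by
      rw [hA, Finset.mem_filter, ← hxA]
      constructor
      · rintro ⟨-, h⟩
        obtain ⟨k, hk, hkx⟩ := horb _ _ h
        exact ⟨k, hk, congrArg Subtype.val hkx⟩
      · rintro ⟨k, hk, hkx⟩
        exact ⟨Finset.mem_univ _, Quotient.sound' ⟨⟨k, hk⟩, Subtype.ext hkx⟩⟩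
    have hmemB : ∀ x : F, x ∈ B ↔ ∃ k ∈ H, (k : X) • (xB : Ω) = x := fun x => by
      rw [hB, Finset.mem_filter, ← hxB]
      constructor
      · rintro ⟨-, h⟩
        obtain ⟨k, hk, hkx⟩ := horb _ _ h
        exact ⟨k, hk, congrArg Subtype.val hkx⟩
      · rintro ⟨k, hk, hkx⟩
        exact ⟨Finset.mem_univ _, Quotient.sound' ⟨⟨k, hk⟩, Subtype.ext hkx⟩⟩
    have hcard : A.card = B.card := by
      have himage : (A.image fun x : F => g • (x : Ω)) = B.image fun x : F => (x : Ω) := by
        ext y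
        simp only [Finset.mem_image]
        constructor
        · rintro ⟨x, hx, rfl⟩
          obtain ⟨k, hk, hkx⟩ := (hmemA x).mp hx
          refine ⟨(⟨_, hconj k hk⟩ : G) • xB, (hmemB _).mpr ⟨_, hconjH k hk, rfl⟩, ?_⟩
          show (g * (k : X) * g⁻¹) • (xB : Ω) = g • (x : Ω)
          rw [← hgAB', ← mul_smul, inv_mul_cancel_right, mul_smul, hkx]
        · rintro ⟨x, hx, rfl⟩
          obtain ⟨k, hk, hkx⟩ := (hmemB x).mp hx
          refine ⟨(⟨_, hconj' k hk⟩ : G) • xA, (hmemA _).mpr ⟨_, hconjH' k hk, rfl⟩, ?_⟩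
          show g • (g⁻¹ * (k : X) * g) • (xA : Ω) = (x : Ω)
          rw [mul_smul, mul_smul, smul_inv_smul, hgAB', hkx]
      have h1 := Finset.card_image_of_injective A
        (f := fun x : F => g • (x : Ω)) ((MulAction.injective g).comp Subtype.val_injective)
      rw [himage, Finset.card_image_of_injective _ Subtype.val_injective] at h1
      exact h1.symm
    omega

end CfsgLib.HalfNormalizer
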