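import Cfsg.Agent.Lib.HalfNormalizer.Module
import Cfsg.Agent.Lib.HalfNormalizer.Netto
import Cfsg.Agent.S0676

/-!
Prime degree with half Sylow normalizer: primitivity of the point stabilizer for `p > 7`.
-/

set_option autoImplicit false

namespace CfsgLib.HalfNormalizer

open MulAction
open Pointwise

variable {G α : Type*} [Group G] [MulAction G α] {p : ℕ} [hp : Fact p.Prime]

/-- Two elements of the complement of a three point line: an involution commuting with the line
stabilizer is one of the three maps given by the third-point function. -/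
theorem commuting_involution_eq [Finite G] (H : Subgroup G) (L : Finset α) (T : α → α → α)
    (hT : ∀ h ∈ H, ∀ x c, x ≠ c → h • T x c = T (h • x) (h • c))
    (hfixL : ∀ h ∈ H, ∀ x ∈ L, h • x = x)
    (hstab : ∀ h ∈ H, ∀ c, c ∉ L → h • c ∉ L)
    (htrans : ∀ c d, c ∉ L → d ∉ L → ∃ h ∈ H, h • c = d)
    (hsym : ∀ x c, x ≠ c → T x c = T c x)
    (hinv : ∀ x c, x ≠ c → T x (T x c) = c)
    (hne : ∀ x c, x ≠ c → T x c ≠ x)
    (ψ : α → α) (hψL : ∀ c, c ∉ L → ψ c ∉ L) (hψH : ∀ h ∈ H, ∀ c, c ∉ L → h • ψ c = ψ (h • c))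
    (hψ2 : ∀ c, c ∉ L → ψ (ψ c) = c) (hψne : ∀ c, c ∉ L → ψ c ≠ c) {u : α} (hu : u ∉ L) :
    ∃ w ∈ L, ∀ c, c ∉ L → ψ c = T w c := by
  classical
  obtain ⟨n, hn, hnu⟩ := htrans u (ψ u) hu (hψL u hu)
  have hnu' : n • ψ u = u := by rw [hψH n hn u hu, hnu, hψ2 u hu]
  set w := T u (ψ u) with hw
  have hne' : u ≠ ψ u := (hψne u hu).symm
  have hnw : n • w = w := by
    rw [hw, hT n hn _ _ hne', hnu, hnu', hsym _ _ hne'.symm]
  have hwL : w ∈ L := by
    by_contra hwL
    set Hu := stabilizer H u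
    set Hw := stabilizer H w
    have hle : Hu ≤ Hw := by
      rintro ⟨h, hh⟩ hhu
      have hhu' : h • u = u := hhu
      show h • w = w
      rw [hw, hT h hh _ _ hne', hψH h hh u hu, hhu']
    have horb : orbit H u = orbit H w := by
      refine (orbit_eq_iff.mpr ?_).symm
      obtain ⟨k, hk, hkw⟩ := htrans u w hu hwL
      exact ⟨⟨k, hk⟩, hkw⟩
    have hidx : Hu.index = Hw.index := by rw [index_stabilizer, index_stabilizer, horb]
    have heq : Hu = Hw := by
      apply Subgroup.eq_of_le_of_card_ge hle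
      have h1 := Hu.card_mul_index
      have h2 := Hw.card_mul_index
      rw [← h1, hidx] at h2
      exact le_of_eq (Nat.eq_of_mul_eq_mul_right (Nat.pos_of_ne_zero Subgroup.index_ne_zero_of_finite) h2)
    have hmem : (⟨n, hn⟩ : H) ∈ Hw := hnw
    rw [← heq] at hmem
    exact hne' ((show n • u = u from hmem).symm.trans hnu)
  have hwu : w ≠ u := fun h => hu (h ▸ hwL)
  have hψu : ψ u = T w u := by
    rw [hsym _ _ hwu, hw, hinv _ _ hne']
  refine ⟨w, hwL, fun c hc => ?_⟩
  obtain ⟨h, hh, rfl⟩ := htrans u c hu hc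
  rw [← hψH h hh u hu, hψu, hT h hh _ _ hwu, hfixL h hh w hwL]

variable [Fintype α] [DecidableEq α]

/-- The line through two distinct points defined by a block of a point stabilizer leads to a
Netto triple system, which bounds the degree. -/
theorem false_of_lines [Finite G] (hp4 : p % 4 = 3) (hp7 : 7 < p) (e : ZMod p ≃ α)
    (htr : ∀ c, ∃ g : G, ∀ j, g • e j = e (j + c))
    (hsq : ∀ s : ZMod p, s ≠ 0 → ∃ g : G, ∀ j, g • e j = e (s * s * j))
    (ℓ : α → α → Finset α)
    (hmem : ∀ u v, u ≠ v → u ∈ ℓ u v ∧ v ∈ ℓ u v)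
    (hsymm : ∀ u v, u ≠ v → ℓ u v = ℓ v u)
    (hline : ∀ u v, u ≠ v → ∀ x ∈ ℓ u v, ∀ y ∈ ℓ u v, x ≠ y → ℓ x y = ℓ u v)
    (heq : ∀ (g : G) u v, u ≠ v → g • ℓ u v = ℓ (g • u) (g • v))
    (hcard3 : 3 ≤ (ℓ (e 0) (e 1)).card) (hne : ℓ (e 0) (e 1) ≠ Finset.univ)
    (htrans : ∀ c d, c ∉ ℓ (e 0) (e 1) → d ∉ ℓ (e 0) (e 1) →
      ∃ g : G, g • e 0 = e 0 ∧ g • e 1 = e 1 ∧ g • c = d) : False := by
  classical
  have h01 : e 0 ≠ e 1 := e.injective.ne zero_ne_one
  set L := ℓ (e 0) (e 1) with hL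
  set S : Finset (ZMod p) := L.image e.symm with hS
  have hmemS : ∀ j, j ∈ S ↔ e j ∈ L := fun j => by
    rw [hS, Finset.mem_image]
    exact ⟨fun ⟨x, hx, hxj⟩ => by rwa [← hxj, e.apply_symm_apply], fun h => ⟨e j, h, e.symm_apply_apply j⟩⟩
  have haff : ∀ u δ : ZMod p, δ ≠ 0 → IsSquare δ → ∃ g : G, ∀ j, g • e j = e (u + δ * j) := by
    intro u δ hδ hs
    obtain ⟨s, rfl⟩ := hs
    obtain ⟨g₁, hg₁⟩ := hsq s (left_ne_zero_of_mul hδ)
    obtain ⟨g₂, hg₂⟩ := htr u
    exact ⟨g₂ * g₁, fun j => by rw [mul_smul, hg₁, hg₂, add_comm]⟩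
  -- the image of the base line under an affine map
  have himg : ∀ u v : ZMod p, u ≠ v → IsSquare (v - u) → ∀ j, e j ∈ L →
      e (u + (v - u) * j) ∈ ℓ (e u) (e v) := by
    intro u v huv hs j hj
    obtain ⟨g, hg⟩ := haff u (v - u) (sub_ne_zero.mpr huv.symm) hs
    have h := heq g _ _ h01
    rw [hg, hg, mul_zero, add_zero, mul_one, add_sub_cancel] at h
    rw [← h, ← hg]
    exact Finset.smul_mem_smul_finset hj
  have hScard : S.card = L.card := Finset.card_image_of_injective _ e.symm.injective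
  have hS3 : S.card ≤ 3 := by
    refine card_line_le hp4 S ((hmemS 0).mpr (hmem _ _ h01).1) ((hmemS 1).mpr (hmem _ _ h01).2)
      (fun h => hne (Finset.eq_univ_iff_forall.mpr fun x => ?_)) ?_
    · obtain ⟨j, rfl⟩ := e.surjective x
      exact (hmemS j).mp (h ▸ Finset.mem_univ j)
    · intro u hu v hv huv hs j hj
      rw [hmemS] at hu hv hj ⊢
      have := himg u v huv hs j hj
      rwa [hline _ _ h01 _ hu _ hv (e.injective.ne huv)] at this
  have hL3 : L.card = 3 := by omega
  obtain ⟨x, hx, hx0, hx1⟩ : ∃ x ∈ L, x ≠ e 0 ∧ x ≠ e 1 := by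
    by_contra h
    push Not at h
    have : L ⊆ {e 0, e 1} := fun x hx => by
      rw [Finset.mem_insert, Finset.mem_singleton]
      by_cases hx0 : x = e 0
      · exact Or.inl hx0
      · exact Or.inr (h x hx hx0)
    have := (Finset.card_le_card this).trans Finset.card_le_two
    omega
  obtain ⟨t, rfl⟩ := e.surjective x
  have ht0 : t ≠ 0 := fun h => hx0 (by rw [h])
  have ht1 : t ≠ 1 := fun h => hx1 (by rw [h])
  have hLeq : L = {e 0, e 1, e t} := by
    symm
    apply Finset.eq_of_subset_of_card_le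
    · intro y hy
      simp only [Finset.mem_insert, Finset.mem_singleton] at hy
      rcases hy with rfl | rfl | rfl
      · exact (hmem _ _ h01).1
      · exact (hmem _ _ h01).2
      · exact hx
    · rw [hL3]
      exact (Finset.card_eq_three.mpr ⟨_, _, _, h01, hx0.symm, hx1.symm, rfl⟩).ge
  have hSmem : ∀ j, e j ∈ L → j = 0 ∨ j = 1 ∨ j = t := fun j hj => by
    simpa [hLeq, e.apply_eq_iff_eq] using hj
  have htn : ¬ IsSquare t := by
    intro hs
    have := himg 0 t ht0.symm (by simpa using hs) t hx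
    rw [hline _ _ h01 _ (hmem _ _ h01).1 _ hx hx0.symm] at this
    rcases hSmem _ this with h | h | h
    · simp [ht0] at h
    · rw [zero_add, sub_zero, mul_self_eq_one_iff] at h
      rcases h with h | h
      · exact ht1 h
      · exact not_isSquare_neg_one (p := p) hp4 (h ▸ hs)
    · rw [zero_add, sub_zero, mul_eq_left₀ ht0] at h
      exact ht1 h
  have htt : t * t - t + 1 = 0 := by
    have hs : IsSquare (0 - t) := by rw [zero_sub]; exact (isSquare_neg_iff hp4 ht0).mpr htn
    have := himg t 0 ht0 hs t hx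
    rw [hline _ _ h01 _ hx _ (hmem _ _ h01).1 hx0] at this
    rcases hSmem _ this with h | h | h
    · exfalso
      have : t * (1 - t) = 0 := by linear_combination h
      rcases mul_eq_zero.mp this with h' | h'
      · exact ht0 h'
      · exact ht1 (sub_eq_zero.mp h').symm
    · linear_combination -h
    · exact absurd (mul_self_eq_zero.mp (show t * t = 0 by linear_combination -h)) ht0
  have hc3 : ∀ u v, u ≠ v → (ℓ u v).card = 3 := by
    intro u v huv
    obtain ⟨i, rfl⟩ := e.surjective u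
    obtain ⟨j, rfl⟩ := e.surjective v
    have hij : i ≠ j := fun h => huv (by rw [h])
    have key : ∀ a b : ZMod p, a ≠ b → IsSquare (b - a) → (ℓ (e a) (e b)).card = 3 := by
      intro a b hab hs
      obtain ⟨g, hg⟩ := haff a (b - a) (sub_ne_zero.mpr hab.symm) hs
      have h := heq g _ _ h01
      rw [hg, hg, mul_zero, add_zero, mul_one, add_sub_cancel] at h
      rw [← h, Finset.card_smul_finset, ← hL, hL3]
    by_cases hs : IsSquare (j - i)
    · exact key i j hij hs
    · rw [hsymm _ _ huv]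
      exact key j i hij.symm (by
        rw [← neg_sub]; exact (isSquare_neg_iff hp4 (sub_ne_zero.mpr hij.symm)).mpr hs)
  let T : α → α → α := fun u v => e (third t (e.symm u) (e.symm v))
  have hTmem : ∀ u v, u ≠ v → T u v ∈ ℓ u v ∧ T u v ≠ u ∧ T u v ≠ v := by
    intro u v huv
    obtain ⟨i, rfl⟩ := e.surjective u
    obtain ⟨j, rfl⟩ := e.surjective v
    have hij : i ≠ j := fun h => huv (by rw [h])
    have hd : j - i ≠ 0 := sub_ne_zero.mpr hij.symm
    obtain ⟨b, hb, he'⟩ := third_eq t i j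
    simp only [T, e.symm_apply_apply, he', ne_eq, e.apply_eq_iff_eq, add_eq_left]
    cases b with
    | true =>
      simp only [if_true]
      refine ⟨himg i j hij (hb.mp rfl) t hx, mul_ne_zero hd ht0, fun h => ?_⟩
      exact ht1 (mul_left_cancel₀ hd (by linear_combination h))
    | false =>
      simp only [Bool.false_eq_true, if_false]
      have hs : IsSquare (i - j) := by
        rw [← neg_sub, isSquare_neg_iff hp4 hd]
        exact fun h => Bool.false_ne_true (hb.mpr h)
      refine ⟨?_, mul_ne_zero hd (sub_ne_zero.mpr ht1.symm), fun h => ?_⟩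
      · rw [hsymm _ _ huv]
        have := himg j i hij.symm hs t hx
        rwa [show i + (j - i) * (1 - t) = j + (i - j) * t by ring]
      · exact ht0 (mul_left_cancel₀ hd (by linear_combination -h))
  have huniq : ∀ u v z, u ≠ v → z ∈ ℓ u v → z ≠ u → z ≠ v → z = T u v := by
    intro u v z huv hz hzu hzv
    by_contra hzT
    obtain ⟨hT1, hT2, hT3⟩ := hTmem u v huv
    have hsub : ({u, v, z, T u v} : Finset α) ⊆ ℓ u v := by
      intro y hy
      simp only [Finset.mem_insert, Finset.mem_singleton] at hy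
      rcases hy with rfl | rfl | rfl | rfl
      · exact (hmem _ _ huv).1
      · exact (hmem _ _ huv).2
      · exact hz
      · exact hT1
    have := Finset.card_le_card hsub
    rw [hc3 u v huv, Finset.card_eq_four.mpr
      ⟨u, v, z, T u v, huv, hzu.symm, hT2.symm, hzv.symm, hT3.symm, hzT, rfl⟩] at this
    omega
  have hTsym : ∀ u v, u ≠ v → T u v = T v u := fun u v h => by
    obtain ⟨h1, h2, h3⟩ := hTmem u v h
    exact huniq v u _ h.symm (hsymm u v h ▸ h1) h3 h2
  have hTeq : ∀ (g : G) u v, u ≠ v → g • T u v = T (g • u) (g • v) := fun g u v h => by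
    obtain ⟨h1, h2, h3⟩ := hTmem u v h
    refine huniq _ _ _ (fun h' => h (MulAction.injective g h')) ?_ ?_ ?_
    · rw [← heq g u v h]; exact Finset.smul_mem_smul_finset h1
    · exact fun h' => h2 (MulAction.injective g h')
    · exact fun h' => h3 (MulAction.injective g h')
  have hTinv : ∀ u v, u ≠ v → T u (T u v) = v := fun u v h => by
    obtain ⟨h1, h2, h3⟩ := hTmem u v h
    refine (huniq u (T u v) v h2.symm ?_ h.symm h3.symm).symm
    rw [hline u v h u (hmem _ _ h).1 _ h1 h2.symm]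
    exact (hmem _ _ h).2
  have hTline : ∀ x c, x ∈ L → c ∉ L → T x c ∉ L := by
    intro x c hx hc hTL
    have hxc : x ≠ c := fun h => hc (h ▸ hx)
    obtain ⟨h1, h2, -⟩ := hTmem x c hxc
    have h4 := hline _ _ h01 _ hx _ hTL h2.symm
    rw [hline x c hxc x (hmem _ _ hxc).1 _ h1 h2.symm] at h4
    exact hc (hL ▸ h4 ▸ (hmem _ _ hxc).2)
  have hTxy : ∀ x y c, x ∈ L → y ∈ L → c ∉ L → T x c = T y c → x = y := by
    intro x y c hx hy hc h
    by_contra hxy
    have hxc : x ≠ c := fun h => hc (h ▸ hx)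
    have hyc : y ≠ c := fun h => hc (h ▸ hy)
    obtain ⟨h1, -, h3⟩ := hTmem x c hxc
    obtain ⟨h1', -, h3'⟩ := hTmem y c hyc
    have ha := hline x c hxc _ h1 _ (hmem _ _ hxc).2 h3
    have hb := hline y c hyc _ h1' _ (hmem _ _ hyc).2 h3'
    rw [← h, ha] at hb
    have hyl : y ∈ ℓ x c := hb ▸ (hmem _ _ hyc).1
    have h4 := hline _ _ h01 _ hx _ hy hxy
    rw [hline x c hxc x (hmem _ _ hxc).1 _ hyl hxy] at h4
    exact hc (hL ▸ h4 ▸ (hmem _ _ hxc).2)
  -- the pointwise stabilizer of the base line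
  set H := stabilizer G (e 0) ⊓ stabilizer G (e 1) with hH
  have hTt : T (e 0) (e 1) = e t := by
    symm
    exact huniq _ _ _ h01 hx hx0 hx1
  have hfixL : ∀ h ∈ H, ∀ x ∈ L, h • x = x := by
    intro h hh x hx'
    obtain ⟨j, rfl⟩ := e.surjective x
    rcases hSmem j hx' with rfl | rfl | rfl
    · exact hh.1
    · exact hh.2
    · rw [← hTt, hTeq h _ _ h01, show h • e 0 = e 0 from hh.1, show h • e 1 = e 1 from hh.2]
  have hstab : ∀ h ∈ H, ∀ c, c ∉ L → h • c ∉ L := by
    intro h hh c hc hc'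
    have := hfixL h⁻¹ (inv_mem hh) _ hc'
    rw [inv_smul_smul] at this
    exact hc (this ▸ hc')
  have htransH : ∀ c d, c ∉ L → d ∉ L → ∃ h ∈ H, h • c = d := fun c d hc hd => by
    obtain ⟨g, h0, h1, h2⟩ := htrans c d hc hd
    exact ⟨g, ⟨h0, h1⟩, h2⟩
  obtain ⟨u, hu⟩ : ∃ u, u ∉ L := by
    by_contra h
    push Not at h
    exact hne (Finset.eq_univ_iff_forall.mpr h)
  have hneL : ∀ {x c}, x ∈ L → c ∉ L → x ≠ c := fun hx hc h => hc (h ▸ hx)
  have hcomm : ∀ x ∈ L, ∀ h ∈ H, ∀ c, c ∉ L → h • T x c = T x (h • c) := fun x hx h hh c hc => by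
    rw [hTeq h _ _ (hneL hx hc), hfixL h hh x hx]
  have hx₀ : e 0 ∈ L := (hmem _ _ h01).1
  have hy₀ : e 1 ∈ L := (hmem _ _ h01).2
  set φ₀ := T (e 0) with hφ₀
  set φ₁ := T (e 1) with hφ₁
  have hmain : (∀ c, c ∉ L → φ₀ (φ₁ c) = T (e t) c) ∨ (∀ c, c ∉ L → φ₀ (φ₁ (φ₀ c)) = T (e t) c) := by
    obtain ⟨w, hw, hweq⟩ := commuting_involution_eq H L T (fun h _ x c hxc => hTeq h x c hxc) hfixL
      hstab htransH hTsym hTinv (fun x c h => (hTmem x c h).2.1) (fun c => φ₀ (φ₁ (φ₀ c)))
      (fun c hc => hTline _ _ hx₀ (hTline _ _ hy₀ (hTline _ _ hx₀ hc)))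
      (fun h hh c hc => by
        simp only [hφ₀, hφ₁]
        rw [hcomm _ hx₀ h hh _ (hTline _ _ hy₀ (hTline _ _ hx₀ hc)),
          hcomm _ hy₀ h hh _ (hTline _ _ hx₀ hc), hcomm _ hx₀ h hh _ hc])
      (fun c hc => by
        simp only [hφ₀, hφ₁]
        rw [hTinv _ _ (hneL hx₀ (hTline _ _ hy₀ (hTline _ _ hx₀ hc))),
          hTinv _ _ (hneL hy₀ (hTline _ _ hx₀ hc)), hTinv _ _ (hneL hx₀ hc)])
      (fun c hc h => by
        simp only [hφ₀, hφ₁] at h
        have h' := congrArg (T (e 0)) h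
        rw [hTinv _ _ (hneL hx₀ (hTline _ _ hy₀ (hTline _ _ hx₀ hc)))] at h'
        exact (hTmem _ _ (hneL hy₀ (hTline _ _ hx₀ hc))).2.2 h') hu
    obtain ⟨j, rfl⟩ := e.surjective w
    rcases hSmem j hw with rfl | rfl | rfl
    · exfalso
      have h' := congrArg (T (e 0)) (hweq u hu)
      simp only [hφ₀, hφ₁] at h'
      rw [hTinv _ _ (hneL hx₀ (hTline _ _ hy₀ (hTline _ _ hx₀ hu))), hTinv _ _ (hneL hx₀ hu)] at h'
      have h'' := congrArg (T (e 1)) h'
      rw [hTinv _ _ (hneL hy₀ (hTline _ _ hx₀ hu))] at h''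
      exact h01 (hTxy _ _ _ hx₀ hy₀ hu h'')
    · left
      have hc' : ∀ c, c ∉ L → φ₀ (φ₁ c) = φ₁ (φ₀ c) := fun c hc => by
        have h := hweq _ (hTline _ _ hx₀ hc)
        simp only [hφ₀, hφ₁] at h ⊢
        rwa [hTinv _ _ (hneL hx₀ hc)] at h
      obtain ⟨v, hv, hveq⟩ := commuting_involution_eq H L T (fun h _ x c hxc => hTeq h x c hxc)
        hfixL hstab htransH hTsym hTinv (fun x c h => (hTmem x c h).2.1) (fun c => φ₀ (φ₁ c))
        (fun c hc => hTline _ _ hx₀ (hTline _ _ hy₀ hc))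
        (fun h hh c hc => by
          simp only [hφ₀, hφ₁]
          rw [hcomm _ hx₀ h hh _ (hTline _ _ hy₀ hc), hcomm _ hy₀ h hh _ hc])
        (fun c hc => by
          show φ₀ (φ₁ (φ₀ (φ₁ c))) = c
          rw [← hc' _ (hTline _ _ hy₀ hc)]
          simp only [hφ₀, hφ₁]
          rw [hTinv _ _ (hneL hy₀ hc), hTinv _ _ (hneL hx₀ hc)])
        (fun c hc h => by
          simp only [hφ₀, hφ₁] at h
          have h' := congrArg (T (e 0)) h
          rw [hTinv _ _ (hneL hx₀ (hTline _ _ hy₀ hc))] at h'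
          exact h01 (hTxy _ _ _ hy₀ hx₀ hc h').symm) hu
      obtain ⟨i, rfl⟩ := e.surjective v
      rcases hSmem i hv with rfl | rfl | rfl
      · exfalso
        have h' := congrArg (T (e 0)) (hveq u hu)
        simp only [hφ₀, hφ₁] at h'
        rw [hTinv _ _ (hneL hx₀ (hTline _ _ hy₀ hu)), hTinv _ _ (hneL hx₀ hu)] at h'
        exact (hTmem _ _ (hneL hy₀ hu)).2.2 h'
      · exfalso
        have h' := hveq u hu
        simp only [hφ₀, hφ₁] at h'
        exact (hTmem _ _ (hneL hx₀ (hTline _ _ hy₀ hu))).2.2 h'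
      · exact hveq
    · exact Or.inr hweq
  have hcL : ∀ c, c ≠ 0 → c ≠ 1 → c ≠ t → e c ∉ L := fun c c0 c1 ct hc => by
    rcases hSmem c hc with h | h | h
    exacts [c0 h, c1 h, ct h]
  have : p ≤ 7 := by
    refine netto_le hp4 htt (hmain.imp (fun h c c0 c1 ct => ?_) (fun h c c0 c1 ct => ?_)) <;>
    · have h' := h (e c) (hcL c c0 c1 ct)
      simpa [hφ₀, hφ₁, T] using h'
  omega

/-- Point stabilizers are primitive for `p > 7`. -/
theorem stabilizer_preprimitive [FaithfulSMul G α] [IsPretransitive G α]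
    (hα : Fintype.card α = p) (hp7 : 7 < p) (hG : ¬ Group.IsSolvable G) (P : Sylow p G)
    (hN : 2 * Nat.card ↥(Subgroup.normalizer ((P : Subgroup G) : Set G)) = p * (p - 1)) (a : α) :
    IsPreprimitive ↥(stabilizer G a) ↥(SubMulAction.ofStabilizer G a) := by
  classical
  haveI := finite_group G α
  have h2 := two_pretransitive hα hG
  have h2' : ∀ {x y z w : α}, x ≠ y → z ≠ w → ∃ g : G, g • x = z ∧ g • y = w :=
    is_two_pretransitive_iff.mp h2
  by_cases h3 : IsMultiplyPretransitive G α 3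
  · exact isPreprimitive_of_is_two_pretransitive
      (SubMulAction.ofStabilizer.isMultiplyPretransitive.mp h3)
  have hfour := (three_transitive_or_four hα (by omega) hG P hN).resolve_left h3
  obtain ⟨e, htr, hsq⟩ := exists_halfAffine hα P hN
  have hp4 : p % 4 = 3 := by
    rcases Nat.odd_mod_four_iff.mp (Nat.odd_iff.mp (hp.out.odd_of_ne_two (by omega))) with h4 | h4
    · exfalso
      apply h3
      -- negation is in the group, so the normalizer of a Sylow subgroup has even order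
      set f := MulAction.toPermHom G α with hf
      haveI : IsPretransitive f.range α := ⟨fun x y => by
        obtain ⟨g, hg⟩ := exists_smul_eq G x y
        exact ⟨⟨f g, g, rfl⟩, hg⟩⟩
      let φ : G ≃* f.range := MonoidHom.ofInjective MulAction.toPerm_injective
      have hG' : ¬ Group.IsSolvable f.range := fun h => hG
        (Group.isSolvable_of_isSolvable_injective (f := φ.toMonoidHom) φ.injective)
      let P' : Sylow p f.range := P.mapSurjective (f := φ.toMonoidHom) φ.surjective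
      have heven : Even (Nat.card (Subgroup.normalizer ((P' : Subgroup f.range) : Set f.range))) := by
        have hc : ((P' : Subgroup f.range)) = (P : Subgroup G).map φ.toMonoidHom := rfl
        rw [hc, ← Subgroup.map_equiv_normalizer_eq,
          ← Nat.card_congr (Subgroup.equivMapOfInjective _ φ.toMonoidHom φ.injective).toEquiv]
        have h' : p * (p - 1) = 4 * (p * ((p - 1) / 4)) := by
          conv_lhs => rw [show p - 1 = 4 * ((p - 1) / 4) by omega]
          ring
        rw [even_iff_two_dvd]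
        exact ⟨p * ((p - 1) / 4), by omega⟩
      have h := Cfsg.Agent.S0676.result hα f.range hG' P' heven
      refine ⟨fun x y => ?_⟩
      obtain ⟨⟨_, g, rfl⟩, hg⟩ := exists_smul_eq f.range x y
      exact ⟨g, hg⟩
    · exact h4
  haveI hpt : IsPretransitive (stabilizer G a) (SubMulAction.ofStabilizer G a) := ⟨fun x y => by
    obtain ⟨g, hga, hgx⟩ := h2' (SubMulAction.neq_of_mem_ofStabilizer G a (x := x)).symm
      (SubMulAction.neq_of_mem_ofStabilizer G a (x := y)).symm
    exact ⟨⟨g, hga⟩, Subtype.ext hgx⟩⟩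
  obtain ⟨b, hb⟩ : ∃ b : α, b ≠ a := Fintype.exists_ne_of_one_lt_card (by omega) a
  let b' : SubMulAction.ofStabilizer G a := ⟨b, hb⟩
  refine IsPreprimitive.of_isTrivialBlock_base b' fun {Δ} hbΔ hblock => ?_
  by_contra htriv
  rw [IsTrivialBlock, not_or] at htriv
  obtain ⟨c', hc'Δ, hc'b⟩ : ∃ c' ∈ Δ, c' ≠ b' := by
    by_contra h
    push Not at h
    exact htriv.1 fun x hx y hy => (h x hx).trans (h y hy).symm
  obtain ⟨z', hz'⟩ : ∃ z', z' ∉ Δ := by
    by_contra h
    push Not at h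
    exact htriv.2 (Set.eq_univ_iff_forall.mpr h)
  -- the base line
  set L₀ : Finset α :=
    Finset.univ.filter (fun x => x = a ∨ ∃ h : x ≠ a, (⟨x, h⟩ : SubMulAction.ofStabilizer G a) ∈ Δ)
    with hL₀
  have hmemL : ∀ x (h : x ≠ a), x ∈ L₀ ↔ (⟨x, h⟩ : SubMulAction.ofStabilizer G a) ∈ Δ :=
    fun x h => by simp [hL₀, h]
  have haL : a ∈ L₀ := by simp [hL₀]
  have hbL : b ∈ L₀ := (hmemL b hb).mpr hbΔ
  have hmove : ∀ g : G, g • a = a → (∃ y ∈ L₀, y ≠ a ∧ g • y ∈ L₀) → g • L₀ = L₀ := by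
    intro g hga hy
    obtain ⟨y, hyL, hya, hgy⟩ := hy
    have hga' : g • y ≠ a := fun h => hya (MulAction.injective g (h.trans hga.symm))
    set g' : stabilizer G a := ⟨g, hga⟩
    have hΔ : g' • Δ = Δ := by
      rcases hblock.smul_eq_or_disjoint g' with h | h
      · exact h
      · exfalso
        refine Set.disjoint_left.mp h (Set.smul_mem_smul_set ((hmemL y hya).mp hyL)) ?_
        exact (hmemL _ hga').mp hgy
    apply Finset.eq_of_subset_of_card_le
    · intro x hx
      obtain ⟨y', hy', rfl⟩ := Finset.mem_smul_finset.mp hx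
      by_cases hy'a : y' = a
      · rw [hy'a, hga]; exact haL
      · have h' : g • y' ≠ a := fun h => hy'a (MulAction.injective g (h.trans hga.symm))
        refine (hmemL _ h').mpr ?_
        rw [← hΔ]
        exact Set.smul_mem_smul_set (a := g') ((hmemL y' hy'a).mp hy')
    · rw [Finset.card_smul_finset]
  set H := stabilizer G a ⊓ stabilizer G b with hH
  have hHL : ∀ h ∈ H, h • L₀ = L₀ := fun h hh =>
    hmove h hh.1 ⟨b, hbL, hb, by rw [show h • b = b from hh.2]; exact hbL⟩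
  have hHmem : ∀ h ∈ H, ∀ x, h • x ∈ L₀ ↔ x ∈ L₀ := fun h hh x => by
    conv_lhs => rw [← hHL h hh, Finset.smul_mem_smul_finset_iff]
  -- orbits of the two point stabilizer
  set c := (c' : α)
  set z := (z' : α)
  have hca : c ≠ a := SubMulAction.neq_of_mem_ofStabilizer G a
  have hza : z ≠ a := SubMulAction.neq_of_mem_ofStabilizer G a
  have hcb : c ≠ b := fun h => hc'b (Subtype.ext h)
  have hcL : c ∈ L₀ := (hmemL c hca).mpr hc'Δ
  have hzL : z ∉ L₀ := fun h => hz' ((hmemL z hza).mp h)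
  letI : Fintype (orbitRel.Quotient H α) := Fintype.ofFinite _
  let π : α → orbitRel.Quotient H α := fun x => Quotient.mk'' x
  have horb : ∀ x y, π x = π y → ∃ h ∈ H, h • y = x := fun x y hxy => by
    obtain ⟨⟨h, hh⟩, hhy⟩ := Quotient.exact' hxy
    exact ⟨h, hh, hhy⟩
  have hcover : ∀ x, π x = π a ∨ π x = π b ∨ π x = π c ∨ π x = π z := by
    have hab : π a ≠ π b := fun h => by
      obtain ⟨k, hk, hkb⟩ := horb _ _ h
      exact hb.symm (hkb.symm.trans hk.2)
    have hfix : ∀ x, x ≠ a → π x ≠ π a := fun x hx h => by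
      obtain ⟨k, hk, hka⟩ := horb _ _ h
      exact hx (hka.symm.trans hk.1)
    have hfix' : ∀ x, x ≠ b → π x ≠ π b := fun x hx h => by
      obtain ⟨k, hk, hkb⟩ := horb _ _ h
      exact hx (hkb.symm.trans hk.2)
    have hcz : π c ≠ π z := fun h => by
      obtain ⟨k, hk, hkz⟩ := horb _ _ h
      exact hzL ((hHmem k hk z).mp (by rw [hkz]; exact hcL))
    have hzb : z ≠ b := fun h => hzL (h ▸ hbL)
    have hall : ({π a, π b, π c, π z} : Finset _) = Finset.univ := by
      apply Finset.eq_univ_of_card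
      rw [Finset.card_eq_four.mpr ⟨π a, π b, π c, π z, hab, (hfix c hca).symm, (hfix z hza).symm,
        (hfix' c hcb).symm, (hfix' z hzb).symm, hcz, rfl⟩, ← Nat.card_eq_fintype_card]
      exact (hfour a b hb.symm).symm
    intro x
    have := hall ▸ Finset.mem_univ (π x)
    simpa using this
  have htin : ∀ x ∈ L₀, x ≠ a → x ≠ b → ∃ h ∈ H, h • c = x := by
    intro x hx hxa hxb
    rcases hcover x with h | h | h | h <;> obtain ⟨k, hk, hkx⟩ := horb _ _ h
    · exact absurd (hkx.symm.trans hk.1) hxa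
    · exact absurd (hkx.symm.trans hk.2) hxb
    · exact ⟨k, hk, hkx⟩
    · exact absurd ((hHmem k hk z).mp (by rw [hkx]; exact hx)) hzL
  have htout : ∀ x, x ∉ L₀ → ∃ h ∈ H, h • z = x := by
    intro x hx
    rcases hcover x with h | h | h | h <;> obtain ⟨k, hk, hkx⟩ := horb _ _ h
    · exact absurd (by rw [← hkx, show k • a = a from hk.1]; exact haL) hx
    · exact absurd (by rw [← hkx, show k • b = b from hk.2]; exact hbL) hx
    · exact absurd (by rw [← hkx]; exact (hHmem k hk c).mpr hcL) hx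
    · exact ⟨k, hk, hkx⟩
  -- the swap preserves the line
  obtain ⟨w, hwa, hwb⟩ := h2' hb.symm hb
  have hwH : ∀ h ∈ H, w * h * w⁻¹ ∈ H := by
    intro h hh
    have h1 : w⁻¹ • a = b := inv_smul_eq_iff.mpr hwb.symm
    have h2 : w⁻¹ • b = a := inv_smul_eq_iff.mpr hwa.symm
    refine ⟨?_, ?_⟩
    · show _ • a = a
      rw [mul_smul, mul_smul, h1, show h • b = b from hh.2, hwb]
    · show _ • b = b
      rw [mul_smul, mul_smul, h2, show h • a = a from hh.1, hwa]
  set C := L₀ \ {a, b} with hC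
  set B := (Finset.univ : Finset α) \ L₀ with hB
  have hconj : ∀ h ∈ H, ∀ x : α, w • (h • x) = (w * h * w⁻¹) • (w • x) := fun h _ x => by
    rw [← mul_smul, ← mul_smul]; simp [mul_assoc]
  have hwC : ∀ x ∈ L₀, w • x ∈ L₀ := by
    by_contra hcon
    push Not at hcon
    obtain ⟨x, hx, hwx⟩ := hcon
    have hxa : x ≠ a := fun h => hwx (by rw [h, hwa]; exact hbL)
    have hxb : x ≠ b := fun h => hwx (by rw [h, hwb]; exact haL)
    obtain ⟨k, hk, hkx⟩ := htin x hx hxa hxb
    have hwc : w • c ∉ L₀ := fun h => hwx (by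
      rw [← hkx, hconj k hk, hHmem _ (hwH k hk)]; exact h)
    have himage : C.image (fun x => w • x) = B := by
      ext y
      simp only [Finset.mem_image, hC, hB, Finset.mem_sdiff, Finset.mem_univ, true_and,
        Finset.mem_insert, Finset.mem_singleton, not_or]
      constructor
      · rintro ⟨x, ⟨hx, hxa, hxb⟩, rfl⟩
        obtain ⟨k, hk, hkx⟩ := htin x hx hxa hxb
        rw [← hkx, hconj k hk, hHmem _ (hwH k hk)]
        exact hwc
      · intro hy
        obtain ⟨k₁, hk₁, hk₁y⟩ := htout (w • c) hwc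
        obtain ⟨k₂, hk₂, hk₂y⟩ := htout y hy
        refine ⟨w⁻¹ • y, ?_, smul_inv_smul w y⟩
        have hk : k₂ * k₁⁻¹ ∈ H := mul_mem hk₂ (inv_mem hk₁)
        have h1 : w⁻¹ * (k₂ * k₁⁻¹) * w ∈ H := by
          have h1' : w⁻¹ • a = b := inv_smul_eq_iff.mpr hwb.symm
          have h2' : w⁻¹ • b = a := inv_smul_eq_iff.mpr hwa.symm
          refine ⟨?_, ?_⟩
          · show _ • a = a
            rw [mul_smul, mul_smul, hwa, show (k₂ * k₁⁻¹) • b = b from hk.2, h2']
          · show _ • b = b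
            rw [mul_smul, mul_smul, hwb, show (k₂ * k₁⁻¹) • a = a from hk.1, h1']
        have hyc : (w⁻¹ * (k₂ * k₁⁻¹) * w) • c = w⁻¹ • y := by
          rw [mul_smul, mul_smul, mul_smul]
          congr 1
          rw [← hk₁y, inv_smul_smul, hk₂y]
        rw [← hyc]
        refine ⟨(hHmem _ h1 c).mpr hcL, ?_, ?_⟩
        · exact fun h => hca (MulAction.injective _ (h.trans (show _ = a from h1.1).symm))
        · exact fun h => hcb (MulAction.injective _ (h.trans (show _ = b from h1.2).symm))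
    have hcardCB : C.card = B.card := by
      rw [← himage, Finset.card_image_of_injective _ (MulAction.injective w)]
    rw [hC, hB, Finset.card_sdiff_of_subset (by simp [Finset.insert_subset_iff, haL, hbL]),
      Finset.card_sdiff_of_subset (Finset.subset_univ _), Finset.card_univ, hα,
      Finset.card_pair hb.symm] at hcardCB
    have : L₀.card ≤ p := hα ▸ Finset.card_le_univ _
    omega
  have hwL : w • L₀ = L₀ := Finset.eq_of_subset_of_card_le
    (fun x hx => by obtain ⟨y, hy, rfl⟩ := Finset.mem_smul_finset.mp hx; exact hwC y hy)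
    (by rw [Finset.card_smul_finset])
  -- the family of lines
  have ht : ∀ u v : α, ∃ t : G, u ≠ v → t • a = u ∧ t • b = v := by
    intro u v
    by_cases h : u = v
    · exact ⟨1, fun h' => absurd h h'⟩
    · obtain ⟨t, h1, h3⟩ := h2' hb.symm h
      exact ⟨t, fun _ => ⟨h1, h3⟩⟩
  choose t ht using ht
  let ℓ : α → α → Finset α := fun u v => t u v • L₀
  have hwd : ∀ (g : G) (u v : α), g • a = u → g • b = v → u ≠ v → g • L₀ = ℓ u v := by
    intro g u v hgu hgv huv
    have hmem : (t u v)⁻¹ * g ∈ H := by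
      refine ⟨?_, ?_⟩
      · show _ • a = a
        rw [mul_smul, hgu, inv_smul_eq_iff, (ht u v huv).1]
      · show _ • b = b
        rw [mul_smul, hgv, inv_smul_eq_iff, (ht u v huv).2]
    have := hHL _ hmem
    rw [mul_smul, inv_smul_eq_iff] at this
    exact this
  have heq : ∀ (g : G) u v, u ≠ v → g • ℓ u v = ℓ (g • u) (g • v) := fun g u v huv => by
    show g • t u v • L₀ = _
    rw [← mul_smul]
    exact hwd _ _ _ (by rw [mul_smul, (ht u v huv).1]) (by rw [mul_smul, (ht u v huv).2])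
      fun h => huv (MulAction.injective g h)
  have hsymm : ∀ u v, u ≠ v → ℓ u v = ℓ v u := fun u v huv => by
    rw [← hwd (t u v * w) v u (by rw [mul_smul, hwa, (ht u v huv).2])
      (by rw [mul_smul, hwb, (ht u v huv).1]) huv.symm, mul_smul, hwL]
  have hmem : ∀ u v, u ≠ v → u ∈ ℓ u v ∧ v ∈ ℓ u v := fun u v huv => by
    obtain ⟨h1, h2⟩ := ht u v huv
    exact ⟨Finset.mem_smul_finset.mpr ⟨a, haL, h1⟩, Finset.mem_smul_finset.mpr ⟨b, hbL, h2⟩⟩
  have hone : ∀ u v, u ≠ v → ∀ x ∈ ℓ u v, x ≠ u → ℓ u x = ℓ u v := by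
    intro u v huv x hx hxu
    obtain ⟨y, hy, rfl⟩ := Finset.mem_smul_finset.mp hx
    obtain ⟨h1, h2⟩ := ht u v huv
    have hya : y ≠ a := fun h => hxu (by rw [h, h1])
    obtain ⟨g, hga, hgb⟩ := h2' hb.symm hya.symm
    rw [← hwd (t u v * g) u (t u v • y) (by rw [mul_smul, hga, h1]) (by rw [mul_smul, hgb]) hxu.symm,
      mul_smul, hmove g hga ⟨b, hbL, hb, by rw [hgb]; exact hy⟩]
  have hline : ∀ u v, u ≠ v → ∀ x ∈ ℓ u v, ∀ y ∈ ℓ u v, x ≠ y → ℓ x y = ℓ u v := by
    intro u v huv x hx y hy hxy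
    by_cases hxu : x = u
    · subst hxu
      exact hone x v huv y hy hxy.symm
    · have h1 := hone u v huv x hx hxu
      have h2 : y ∈ ℓ x u := by rw [← hsymm u x (Ne.symm hxu), h1]; exact hy
      rw [hone x u hxu y h2 hxy.symm, ← hsymm u x (Ne.symm hxu), h1]
  obtain ⟨g, hga, hgb⟩ := h2' hb.symm (e.injective.ne (zero_ne_one (α := ZMod p)))
  have hℓ01 : ℓ (e 0) (e 1) = g • L₀ :=
    (hwd g _ _ hga hgb (e.injective.ne zero_ne_one)).symm
  refine false_of_lines hp4 hp7 e htr hsq ℓ hmem hsymm hline heq ?_ ?_ ?_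
  · rw [hℓ01, Finset.card_smul_finset]
    calc 3 = ({a, b, c} : Finset α).card :=
          (Finset.card_eq_three.mpr ⟨a, b, c, hb.symm, hca.symm, hcb.symm, rfl⟩).symm
      _ ≤ L₀.card := Finset.card_le_card (by simp [Finset.insert_subset_iff, haL, hbL, hcL])
  · rw [hℓ01]
    intro h
    have : g • z ∈ g • L₀ := h ▸ Finset.mem_univ _
    rw [Finset.smul_mem_smul_finset_iff] at this
    exact hzL this
  · intro x y hx hy
    rw [hℓ01] at hx hy
    have hx' : g⁻¹ • x ∉ L₀ := fun h => hx (Finset.mem_smul_finset.mpr ⟨_, h, smul_inv_smul g x⟩)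
    have hy' : g⁻¹ • y ∉ L₀ := fun h => hy (Finset.mem_smul_finset.mpr ⟨_, h, smul_inv_smul g y⟩)
    obtain ⟨k₁, hk₁, hk₁x⟩ := htout _ hx'
    obtain ⟨k₂, hk₂, hk₂y⟩ := htout _ hy'
    have hk : k₂ * k₁⁻¹ ∈ H := mul_mem hk₂ (inv_mem hk₁)
    refine ⟨g * (k₂ * k₁⁻¹) * g⁻¹, ?_, ?_, ?_⟩
    · rw [mul_smul, mul_smul, inv_smul_eq_iff.mpr hga.symm, show (k₂ * k₁⁻¹) • a = a from hk.1, hga]
    · rw [mul_smul, mul_smul, inv_smul_eq_iff.mpr hgb.symm, show (k₂ * k₁⁻¹) • b = b from hk.2, hgb]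
    · rw [mul_smul, mul_smul, mul_smul, ← hk₁x, inv_smul_smul, hk₂y, smul_inv_smul]

end CfsgLib.HalfNormalizer
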