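import Cfsg.Agent.Lib.HalfNormalizer.Overgroup

/-!
Prime degree `p = q + 2` with `q` prime and half Sylow normalizer: quintuply transitive.
-/

set_option autoImplicit false

namespace CfsgLib.HalfNormalizer

open MulAction
open Pointwise

variable {G α : Type*} [Group G] [MulAction G α] [FaithfulSMul G α] [Fintype α] [DecidableEq α]
  [IsPretransitive G α] {p : ℕ} [hp : Fact p.Prime]

omit [DecidableEq α] in
/-- A transitive group of prime degree with even Sylow normalizer is triply transitive. -/
theorem three_transitive_of_even (hα : Fintype.card α = p) (hG : ¬ Group.IsSolvable G)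
    (P : Sylow p G)
    (heven : Even (Nat.card (Subgroup.normalizer ((P : Subgroup G) : Set G)))) :
    IsMultiplyPretransitive G α 3 := by
  classical
  haveI := finite_group G α
  set f := MulAction.toPermHom G α with hf
  haveI : IsPretransitive f.range α := ⟨fun x y => by
    obtain ⟨g, hg⟩ := exists_smul_eq G x y
    exact ⟨⟨f g, g, rfl⟩, hg⟩⟩
  let φ : G ≃* f.range := MonoidHom.ofInjective MulAction.toPerm_injective
  have hG' : ¬ Group.IsSolvable f.range := fun h => hG
    (Group.isSolvable_of_isSolvable_injective (f := φ.toMonoidHom) φ.injective)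
  let P' : Sylow p f.range := P.mapSurjective (f := φ.toMonoidHom) φ.surjective
  have heven' : Even (Nat.card (Subgroup.normalizer ((P' : Subgroup f.range) : Set f.range))) := by
    have hc : ((P' : Subgroup f.range)) = (P : Subgroup G).map φ.toMonoidHom := rfl
    rwa [hc, ← Subgroup.map_equiv_normalizer_eq,
      ← Nat.card_congr (Subgroup.equivMapOfInjective _ φ.toMonoidHom φ.injective).toEquiv]
  have h := Cfsg.Agent.S0676.result hα f.range hG' P' heven'
  refine ⟨fun x y => ?_⟩
  obtain ⟨⟨_, g, rfl⟩, hg⟩ := exists_smul_eq f.range x y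
  exact ⟨g, hg⟩

/-- With half normalizer every element is an even permutation. -/
theorem sign_eq_one (hα : Fintype.card α = p) (hp2 : p ≠ 2) (P : Sylow p G)
    (hN : 2 * Nat.card ↥(Subgroup.normalizer ((P : Subgroup G) : Set G)) = p * (p - 1)) (g : G) :
    Equiv.Perm.sign (MulAction.toPerm g : Equiv.Perm α) = 1 := by
  haveI := finite_group G α
  set sgn : G →* ℤˣ := Equiv.Perm.sign.comp (MulAction.toPermHom G α) with hsgn
  set N := Subgroup.normalizer ((P : Subgroup G) : Set G) with hNdef
  obtain ⟨e, hcoord⟩ := exists_affine_coord hα P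
  have hNK : N ≤ sgn.ker := by
    intro n hn
    obtain ⟨a, c, ha, hac⟩ := hcoord n hn
    have hpow : ∀ k : ℕ, ∃ d : ZMod p, ∀ j, n ^ k • e j = e (a ^ k * j + d) := by
      intro k
      induction k with
      | zero => exact ⟨0, fun j => by simp⟩
      | succ k ih =>
        obtain ⟨d, hd⟩ := ih
        exact ⟨a * d + c, fun j => by rw [pow_succ', mul_smul, hd, hac, pow_succ']; congr 1; ring⟩
    have hsq : IsSquare a := by
      rw [ZMod.euler_criterion p ha]
      obtain ⟨d, hd⟩ := hpow (Nat.card N)
      have h1 : n ^ Nat.card N = 1 := by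
        have : (⟨n, hn⟩ : N) ^ Nat.card N = 1 := pow_card_eq_one'
        exact congrArg Subtype.val this
      have h0 := hd 0
      have h2 := hd 1
      rw [h1, one_smul, e.apply_eq_iff_eq] at h0 h2
      have hodd : p % 2 = 1 := Nat.odd_iff.mp (hp.out.odd_of_ne_two hp2)
      have hcard : Nat.card N = p * (p / 2) := by
        have : p * (p - 1) = 2 * (p * (p / 2)) := by
          rw [show p - 1 = 2 * (p / 2) by omega]; ring
        omega
      rw [hcard, pow_mul, ZMod.pow_card, mul_zero, zero_add] at h0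
      rw [hcard, pow_mul, ZMod.pow_card, mul_one] at h2
      linear_combination -h2 + h0
    obtain ⟨s, rfl⟩ := hsq
    have h2ne : (2 : ZMod p) ≠ 0 := by
      intro h
      have h3 := (ZMod.natCast_eq_zero_iff 2 p).mp (by exact_mod_cast h)
      exact hp2 ((Nat.prime_dvd_prime_iff_eq hp.out Nat.prime_two).mp h3)
    let T : Equiv.Perm α := e.symm.trans ((Equiv.addRight (c / 2)).trans e)
    let M : Equiv.Perm α :=
      e.symm.trans ((Equiv.mulLeft₀ s (left_ne_zero_of_mul ha)).trans e)
    have hperm : MulAction.toPerm n = (T * T) * (M * M) := by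
      ext x
      obtain ⟨j, rfl⟩ := e.surjective x
      simp only [MulAction.toPerm_apply, hac, Equiv.Perm.mul_apply, T, M, Equiv.trans_apply,
        Equiv.symm_apply_apply, Equiv.mulLeft₀_apply, Equiv.coe_addRight]
      congr 1
      field_simp
      ring
    show Equiv.Perm.sign (MulAction.toPerm n : Equiv.Perm α) = 1
    rw [hperm, map_mul, map_mul, map_mul, Int.units_mul_self, Int.units_mul_self, one_mul]
  have htop : sgn.ker = ⊤ := by
    have h : N ⊔ sgn.ker = ⊤ :=
      Sylow.normalizer_sup_eq_top' P (Subgroup.le_normalizer.trans hNK : (P : Subgroup G) ≤ sgn.ker)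
    rwa [sup_eq_right.mpr hNK] at h
  exact (MonoidHom.mem_ker (f := sgn)).mp (htop ▸ Subgroup.mem_top g)

omit [FaithfulSMul G α] [IsPretransitive G α] in
/-- A primitive group of rank three whose subdegrees are coprime does not exist. -/
theorem rank_three_false {K T : Type*} [Group K] [MulAction K T] [Fintype T] [DecidableEq T]
    [IsPreprimitive K T] (u : T) (A B : Finset T) (huA : u ∉ A)
    (hcover : ∀ x, x = u ∨ x ∈ A ∨ x ∈ B) (hdisj : Disjoint A B)
    (hA : ∀ x ∈ A, ∀ y, y ∈ A ↔ ∃ h ∈ stabilizer K u, h • x = y)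
    (hB : ∀ x ∈ B, ∀ y, y ∈ B ↔ ∃ h ∈ stabilizer K u, h • x = y)
    (huB : u ∉ B) (hA0 : A.Nonempty) (hB0 : B.Nonempty)
    (hco : Nat.Coprime A.card B.card) (hlt : A.card < B.card) : False := by
  classical
  have hHA : ∀ h ∈ stabilizer K u, h • A = A := fun h hh =>
    Finset.eq_of_subset_of_card_le (fun y hy => by
      obtain ⟨x, hx, rfl⟩ := Finset.mem_smul_finset.mp hy
      exact (hA x hx _).mpr ⟨h, hh, rfl⟩) (by rw [Finset.card_smul_finset])
  have hHB : ∀ h ∈ stabilizer K u, h • B = B := fun h hh =>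
    Finset.eq_of_subset_of_card_le (fun y hy => by
      obtain ⟨x, hx, rfl⟩ := Finset.mem_smul_finset.mp hy
      exact (hB x hx _).mpr ⟨h, hh, rfl⟩) (by rw [Finset.card_smul_finset])
  choose t ht using fun x : T => exists_smul_eq K u x
  let N : T → Finset T := fun x => t x • A
  have hN : ∀ (g : K) x, g • u = x → g • A = N x := fun g x hg => by
    have h := hHA ((t x)⁻¹ * g) (by
      show _ • u = u
      rw [mul_smul, hg, inv_smul_eq_iff, ht])
    rw [mul_smul, inv_smul_eq_iff] at h
    exact h
  have hNeq : ∀ (g : K) x, g • N x = N (g • x) := fun g x => by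
    show g • t x • A = _
    rw [← mul_smul]
    exact hN _ _ (by rw [mul_smul, ht])
  have hNu : N u = A := (hN 1 u (one_smul _ _)).symm.trans (one_smul _ _)
  obtain ⟨x₀, hx₀⟩ := hA0
  obtain ⟨y₀, hy₀⟩ := hB0
  set c := (N x₀ ∩ B).card with hc
  set c' := (A.filter fun x => y₀ ∈ N x).card with hc'
  have hconst : ∀ x ∈ A, (N x ∩ B).card = c := by
    intro x hx
    obtain ⟨h, hh, rfl⟩ := (hA x₀ hx₀ x).mp hx
    rw [← hNeq]
    conv_lhs => rw [← hHB h hh]
    rw [← Finset.smul_finset_inter, Finset.card_smul_finset]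
  have hconst' : ∀ y ∈ B, (A.filter fun x => y ∈ N x).card = c' := by
    intro y hy
    obtain ⟨h, hh, rfl⟩ := (hB y₀ hy₀ y).mp hy
    have : (A.filter fun x => h • y₀ ∈ N x) = h • A.filter fun x => y₀ ∈ N x := by
      ext x
      rw [← Finset.inv_smul_mem_iff (a := h), Finset.mem_filter, Finset.mem_filter]
      have h1 : h⁻¹ • x ∈ A ↔ x ∈ A := by
        rw [Finset.inv_smul_mem_iff, hHA h hh]
      have h2 : y₀ ∈ N (h⁻¹ • x) ↔ h • y₀ ∈ N x := by
        rw [← hNeq, Finset.mem_inv_smul_finset_iff]
      rw [h1, h2]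
    rw [this, Finset.card_smul_finset]
  have hcount : A.card * c = B.card * c' := by
    have h1 : ∑ x ∈ A, (N x ∩ B).card = ∑ y ∈ B, (A.filter fun x => y ∈ N x).card := by
      have := Finset.sum_card_bipartiteAbove_eq_sum_card_bipartiteBelow
        (s := A) (t := B) (fun x y => y ∈ N x)
      simp only [Finset.bipartiteAbove, Finset.bipartiteBelow] at this
      rw [← this]
      refine Finset.sum_congr rfl fun x _ => ?_
      rw [Finset.inter_comm, Finset.filter_mem_eq_inter]
    rwa [Finset.sum_congr rfl hconst, Finset.sum_congr rfl hconst', Finset.sum_const,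
      Finset.sum_const, smul_eq_mul, smul_eq_mul] at h1
  have hcle : c ≤ A.card := (Finset.card_le_card Finset.inter_subset_left).trans
    (le_of_eq (Finset.card_smul_finset _ _))
  have hc0 : c = 0 := by
    by_contra h
    have : B.card ∣ c := (Nat.Coprime.symm hco).dvd_of_dvd_mul_left (hcount ▸ Nat.dvd_mul_right _ _)
    have := Nat.le_of_dvd (Nat.pos_of_ne_zero h) this
    omega
  set D : Finset T := insert u A with hD
  have hmove : ∀ g : K, g • u ∈ D → g • D = D := by
    intro g hg
    rw [hD, Finset.smul_finset_insert, hN g _ rfl]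
    rcases Finset.mem_insert.mp hg with h | h
    · rw [h, hNu]
    · have hNx : N (g • u) ∩ B = ∅ := Finset.card_eq_zero.mp ((hconst _ h).trans hc0)
      have hxN : g • u ∉ N (g • u) := by
        intro h'
        rw [← hN g _ rfl, Finset.smul_mem_smul_finset_iff] at h'
        exact huA h'
      refine Finset.eq_of_subset_of_card_le ?_ ?_
      · intro y hy
        rcases Finset.mem_insert.mp hy with rfl | hy
        · exact Finset.mem_insert_of_mem h
        · rcases hcover y with rfl | hy' | hy'
          · exact Finset.mem_insert_self _ _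
          · exact Finset.mem_insert_of_mem hy'
          · exact absurd (Finset.mem_inter.mpr ⟨hy, hy'⟩) (by rw [hNx]; exact Finset.notMem_empty _)
      · rw [Finset.card_insert_of_notMem huA, Finset.card_insert_of_notMem hxN, ← hN g _ rfl,
          Finset.card_smul_finset]
  have hblock : IsBlock K (D : Set T) := by
    rw [isBlock_iff_smul_eq_of_nonempty]
    rintro g ⟨x, hx, hxD⟩
    rw [← Finset.coe_smul_finset] at hx ⊢
    rw [Finset.mem_coe] at hx hxD
    obtain ⟨y, hy, rfl⟩ := Finset.mem_smul_finset.mp hx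
    obtain ⟨k, hk⟩ := exists_smul_eq K u y
    have h1 := hmove k (by rw [hk]; exact hy)
    have h2 := hmove (g * k) (by rw [mul_smul, hk]; exact hxD)
    rw [mul_smul, h1] at h2
    rw [h2]
  rcases IsBlock.subsingleton_or_eq_univ hblock with h | h
  · have : x₀ = u := h (by simp [hD, hx₀] : x₀ ∈ (D : Set T)) (by simp [hD] : u ∈ (D : Set T))
    exact huA (this ▸ hx₀)
  · have hy : y₀ ∈ (D : Set T) := h ▸ Set.mem_univ y₀
    rw [Finset.mem_coe, hD, Finset.mem_insert] at hy
    rcases hy with rfl | hy
    · exact huB hy₀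
    · exact Finset.disjoint_left.mp hdisj hy hy₀

/-- If `p - 2` is prime then `G` is triply transitive. -/
theorem three_transitive_of_sub_two (hα : Fintype.card α = p) (hp7 : 7 < p)
    (hq : (p - 2).Prime) (hG : ¬ Group.IsSolvable G) (P : Sylow p G)
    (hN : 2 * Nat.card ↥(Subgroup.normalizer ((P : Subgroup G) : Set G)) = p * (p - 1)) :
    IsMultiplyPretransitive G α 3 := by
  classical
  haveI := finite_group G α
  by_contra h3
  have hfour := (three_transitive_or_four hα (by omega) hG P hN).resolve_left h3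
  obtain ⟨a, b, hab⟩ := Fintype.exists_pair_of_one_lt_card (α := α) (by omega)
  haveI := stabilizer_preprimitive hα hp7 hG P hN a
  set T := SubMulAction.ofStabilizer G a with hT
  letI : Fintype T := Fintype.ofFinite T
  let u : T := ⟨b, hab.symm⟩
  set H := stabilizer G a ⊓ stabilizer G b with hH
  letI : Fintype (orbitRel.Quotient H α) := Fintype.ofFinite _
  let π : α → orbitRel.Quotient H α := fun x => Quotient.mk'' x
  have hπ : ∀ x y, π x = π y → ∃ h ∈ H, h • y = x := fun x y hxy => by
    obtain ⟨⟨h, hh⟩, hhy⟩ := Quotient.exact' hxy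
    exact ⟨h, hh, hhy⟩
  have hπ' : ∀ h ∈ H, ∀ y, π (h • y) = π y := fun h hh y => Quotient.sound' ⟨⟨h, hh⟩, rfl⟩
  have hrel : ∀ x y : T, π (x : α) = π y ↔ ∃ h ∈ stabilizer (stabilizer G a) u, h • y = x := by
    intro x y
    constructor
    · intro h
      obtain ⟨k, hk, hkx⟩ := hπ _ _ h
      exact ⟨⟨k, hk.1⟩, Subtype.ext hk.2, Subtype.ext hkx⟩
    · rintro ⟨⟨k, hka⟩, hku, rfl⟩
      exact hπ' k ⟨hka, congrArg Subtype.val hku⟩ _
  have hQ : Fintype.card (orbitRel.Quotient H α) = 4 := by
    rw [← Nat.card_eq_fintype_card]; exact hfour a b hab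
  have hne : π a ≠ π b := fun h => by
    obtain ⟨k, hk, hkb⟩ := hπ _ _ h
    exact hab (hkb.symm.trans hk.2)
  have hc : ((Finset.univ : Finset (orbitRel.Quotient H α)) \ {π a, π b}).card = 2 := by
    rw [Finset.card_sdiff_of_subset (Finset.subset_univ _), Finset.card_univ, hQ,
      Finset.card_pair hne]
  obtain ⟨qA, qB, hAB, hset⟩ := Finset.card_eq_two.mp hc
  set A := Finset.univ.filter fun x : T => π (x : α) = qA with hA
  set B := Finset.univ.filter fun x : T => π (x : α) = qB with hB
  have hqA : qA ∈ (Finset.univ : Finset (orbitRel.Quotient H α)) \ {π a, π b} := by rw [hset]; simp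
  have hqB : qB ∈ (Finset.univ : Finset (orbitRel.Quotient H α)) \ {π a, π b} := by rw [hset]; simp
  simp only [Finset.mem_sdiff, Finset.mem_univ, true_and, Finset.mem_insert, Finset.mem_singleton,
    not_or] at hqA hqB
  have hTa : ∀ x : T, (x : α) ≠ a := fun x => SubMulAction.neq_of_mem_ofStabilizer G a
  have hfixa : ∀ x : T, π (x : α) ≠ π a := fun x h => by
    obtain ⟨k, hk, hkx⟩ := hπ _ _ h
    exact hTa x (hkx.symm.trans hk.1)
  have hcover : ∀ x, x = u ∨ x ∈ A ∨ x ∈ B := by
    intro x
    by_cases hb : π (x : α) = π b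
    · obtain ⟨k, hk, hkx⟩ := hπ _ _ hb
      exact Or.inl (Subtype.ext (hkx.symm.trans hk.2))
    · have : π (x : α) ∈ (Finset.univ : Finset (orbitRel.Quotient H α)) \ {π a, π b} := by
        simp [hfixa x, hb]
      rw [hset] at this
      simp only [Finset.mem_insert, Finset.mem_singleton] at this
      simp only [hA, hB, Finset.mem_filter, Finset.mem_univ, true_and]
      exact Or.inr this
  have huA : u ∉ A := by
    simp only [hA, Finset.mem_filter, Finset.mem_univ, true_and]
    exact Ne.symm hqA.2
  have huB : u ∉ B := by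
    simp only [hB, Finset.mem_filter, Finset.mem_univ, true_and]
    exact Ne.symm hqB.2
  have hdisj : Disjoint A B := Finset.disjoint_filter.mpr fun x _ h1 h2 => hAB (h1.symm.trans h2)
  have horbit : ∀ q, ∀ x ∈ Finset.univ.filter (fun x : T => π (x : α) = q), ∀ y,
      y ∈ Finset.univ.filter (fun x : T => π (x : α) = q) ↔
        ∃ h ∈ stabilizer (stabilizer G a) u, h • x = y := by
    intro q x hx y
    simp only [Finset.mem_filter, Finset.mem_univ, true_and] at hx ⊢
    rw [← hrel, hx]
  have hnon : ∀ q, q ≠ π a → (Finset.univ.filter fun x : T => π (x : α) = q).Nonempty := by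
    intro q hq
    obtain ⟨z, rfl⟩ := Quotient.mk''_surjective q
    exact ⟨⟨z, fun h => hq (congrArg π h)⟩, by simp [π]⟩
  have hsum : A.card + B.card + 1 = p - 1 := by
    have hu : insert u (A ∪ B) = Finset.univ := Finset.eq_univ_iff_forall.mpr fun x => by
      simpa using hcover x
    have h := congrArg Finset.card hu
    rw [Finset.card_insert_of_notMem (by simp [huA, huB]), Finset.card_union_of_disjoint hdisj,
      Finset.card_univ, ← Nat.card_eq_fintype_card, SubMulAction.nat_card_ofStabilizer_eq,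
      Nat.card_eq_fintype_card, hα] at h
    exact h
  have hA1 := Finset.card_pos.mpr (hnon qA hqA.1)
  have hB1 := Finset.card_pos.mpr (hnon qB hqB.1)
  rw [← hA] at hA1
  rw [← hB] at hB1
  have hco : Nat.Coprime A.card B.card := by
    have h : A.card + B.card = p - 2 := by omega
    rw [← Nat.coprime_add_self_right, add_comm B.card, h, Nat.coprime_comm,
      hq.coprime_iff_not_dvd]
    exact fun h' => by have := Nat.le_of_dvd hA1 h'; omega
  rcases lt_trichotomy A.card B.card with h | h | h
  · exact rank_three_false u A B huA hcover hdisj (horbit qA) (horbit qB) huB (hnon qA hqA.1)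
      (hnon qB hqB.1) hco h
  · rw [h, Nat.coprime_self] at hco
    omega
  · exact rank_three_false u B A huB (fun x => (hcover x).imp id Or.symm) hdisj.symm (horbit qB)
      (horbit qA) huA (hnon qB hqB.1) (hnon qA hqA.1) hco.symm h

/-- A doubly transitive subgroup of index two of a triply transitive group of odd degree is triply
transitive. -/
theorem three_transitive_of_index_two {H T : Type*} [Group H] [MulAction H T] [Fintype T]
    [DecidableEq T] (hodd : Odd (Fintype.card T)) (K : Subgroup H) (hKn : K.Normal)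
    (htwo : ∀ g h : H, g ∉ K → h ∈ K ∨ g⁻¹ * h ∈ K)
    (h2 : IsMultiplyPretransitive K T 2) (h3 : IsMultiplyPretransitive H T 3) :
    ∀ x y z x' y' z' : T, x ≠ y → x ≠ z → y ≠ z → x' ≠ y' → x' ≠ z' → y' ≠ z' →
      ∃ k : K, k • x = x' ∧ k • y = y' ∧ k • z = z' := by
  classical
  have hK2 : ∀ x y : T, x ≠ y → ∀ z w : T, z ≠ x → z ≠ y → w ≠ x → w ≠ y →
      ∃ k : K, k • x = x ∧ k • y = y ∧ k • z = w := by
    intro x y hxy z w hzx hzy hwx hwy
    by_contra hnone
    have hfix : ∀ v : T, v ≠ x → v ≠ y → ∃ h : H, h • x = x ∧ h • y = y ∧ h • z = v := by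
      intro v hvx hvy
      have e1 : Function.Injective ![x, y, z] := fun i j hij => by
        fin_cases i <;> fin_cases j <;> simp_all [eq_comm]
      have e2 : Function.Injective ![x, y, v] := fun i j hij => by
        fin_cases i <;> fin_cases j <;> simp_all [eq_comm]
      obtain ⟨h, hh⟩ := exists_smul_eq H (⟨_, e1⟩ : Fin 3 ↪ T) ⟨_, e2⟩
      refine ⟨h, ?_, ?_, ?_⟩
      · exact DFunLike.congr_fun hh 0
      · exact DFunLike.congr_fun hh 1
      · exact DFunLike.congr_fun hh 2
    obtain ⟨g, hgx, hgy, hgz⟩ := hfix w hwx hwy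
    have hgK : g ∉ K := fun h => hnone ⟨⟨g, h⟩, hgx, hgy, hgz⟩
    set O := Finset.univ.filter fun v : T => ∃ k : K, k • x = x ∧ k • y = y ∧ k • z = v with hO
    have hgi : g⁻¹ • x = x ∧ g⁻¹ • y = y :=
      ⟨inv_smul_eq_iff.mpr hgx.symm, inv_smul_eq_iff.mpr hgy.symm⟩
    have hcover : O ∪ g • O = Finset.univ \ {x, y} := by
      ext v
      simp only [Finset.mem_union, hO, Finset.mem_filter, Finset.mem_univ, true_and,
        Finset.mem_smul_finset, Finset.mem_sdiff, Finset.mem_insert, Finset.mem_singleton, not_or]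
      constructor
      · rintro (⟨k, k1, k2, rfl⟩ | ⟨_, ⟨k, k1, k2, rfl⟩, rfl⟩)
        · exact ⟨fun h => hzx (MulAction.injective k (h.trans k1.symm)),
            fun h => hzy (MulAction.injective k (h.trans k2.symm))⟩
        · exact ⟨fun h => hzx (MulAction.injective k
            ((MulAction.injective g (h.trans hgx.symm)).trans k1.symm)),
            fun h => hzy (MulAction.injective k
            ((MulAction.injective g (h.trans hgy.symm)).trans k2.symm))⟩
      · rintro ⟨hvx, hvy⟩
        obtain ⟨h, h1, h4, h5⟩ := hfix v hvx hvy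
        rcases htwo g h hgK with hh | hh
        · exact Or.inl ⟨⟨h, hh⟩, h1, h4, h5⟩
        · refine Or.inr ⟨(g⁻¹ * h) • z, ⟨⟨_, hh⟩, ?_, ?_, rfl⟩, ?_⟩
          · show (g⁻¹ * h) • x = x
            rw [mul_smul, h1, hgi.1]
          · show (g⁻¹ * h) • y = y
            rw [mul_smul, h4, hgi.2]
          · rw [mul_smul, smul_inv_smul, h5]
    have hdisj : Disjoint O (g • O) := by
      rw [Finset.disjoint_left]
      intro v hv hv'
      simp only [hO, Finset.mem_filter, Finset.mem_univ, true_and, Finset.mem_smul_finset] at hv hv'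
      obtain ⟨k, k1, k2, rfl⟩ := hv
      obtain ⟨_, ⟨l, l1, l2, rfl⟩, hgl⟩ := hv'
      have hk' : g * l * g⁻¹ ∈ K := hKn.conj_mem _ l.2 g
      refine hnone ⟨(⟨g * l * g⁻¹, hk'⟩ : K)⁻¹ * k, ?_, ?_, ?_⟩
      · rw [mul_smul, k1, inv_smul_eq_iff]
        show x = (g * (l : H) * g⁻¹) • x
        rw [mul_smul, mul_smul, hgi.1, show (l : H) • x = x from l1, hgx]
      · rw [mul_smul, k2, inv_smul_eq_iff]
        show y = (g * (l : H) * g⁻¹) • y
        rw [mul_smul, mul_smul, hgi.2, show (l : H) • y = y from l2, hgy]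
      · rw [mul_smul, inv_smul_eq_iff]
        show (k : H) • z = (g * (l : H) * g⁻¹) • w
        rw [mul_smul, mul_smul, ← hgz, inv_smul_smul]
        exact hgl.symm
    have hcard := congrArg Finset.card hcover
    rw [Finset.card_union_of_disjoint hdisj, Finset.card_smul_finset,
      Finset.card_sdiff_of_subset (Finset.subset_univ _), Finset.card_univ,
      Finset.card_pair hxy] at hcard
    have := Nat.odd_iff.mp hodd
    have h2le := Finset.card_le_univ ({x, y} : Finset T)
    rw [Finset.card_pair hxy] at h2le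
    omega
  intro x y z x' y' z' hxy hxz hyz hxy' hxz' hyz'
  obtain ⟨k, hkx, hky⟩ := (is_two_pretransitive_iff.mp h2) hxy hxy'
  obtain ⟨l, hlx, hly, hlz⟩ := hK2 x' y' hxy' (k • z) z'
    (fun h => hxz (MulAction.injective k (hkx.trans h.symm)))
    (fun h => hyz (MulAction.injective k (hky.trans h.symm))) hxz'.symm hyz'.symm
  exact ⟨l * k, by rw [mul_smul, hkx, hlx], by rw [mul_smul, hky, hly], by rw [mul_smul, hlz]⟩

set_option maxHeartbeats 1000000 in
/-- `p = q + 2` with `q > 5` prime: quintuply transitive. -/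
theorem five_transitive (hα : Fintype.card α = p) {q : ℕ} (hq : q.Prime) (hq5 : 5 < q)
    (hpq : p = q + 2) (hG : ¬ Group.IsSolvable G) (P : Sylow p G)
    (hN : 2 * Nat.card ↥(Subgroup.normalizer ((P : Subgroup G) : Set G)) = p * (p - 1)) :
    IsMultiplyPretransitive G α 5 := by
  classical
  haveI := finite_group G α
  haveI : Fact q.Prime := ⟨hq⟩
  have h3 := three_transitive_of_sub_two hα (by omega) (by rwa [show p - 2 = q by omega]) hG P hN
  have h2 := two_pretransitive hα hG
  have h2' : ∀ {x y z w : α}, x ≠ y → z ≠ w → ∃ g : G, g • x = z ∧ g • y = w :=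
    is_two_pretransitive_iff.mp h2
  have hev := sign_eq_one hα (by omega) P hN
  obtain ⟨a, b, hab⟩ := Fintype.exists_pair_of_one_lt_card (α := α) (by omega)
  let H : Subgroup G :=
    { carrier := {g | (g • a = a ∧ g • b = b) ∨ (g • a = b ∧ g • b = a)}
      one_mem' := Or.inl ⟨one_smul _ _, one_smul _ _⟩
      mul_mem' := by
        rintro g h (⟨g1, g2⟩ | ⟨g1, g2⟩) (⟨h1, h2⟩ | ⟨h1, h2⟩)
        · exact Or.inl ⟨by rw [mul_smul, h1, g1], by rw [mul_smul, h2, g2]⟩
        · exact Or.inr ⟨by rw [mul_smul, h1, g2], by rw [mul_smul, h2, g1]⟩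
        · exact Or.inr ⟨by rw [mul_smul, h1, g1], by rw [mul_smul, h2, g2]⟩
        · exact Or.inl ⟨by rw [mul_smul, h1, g2], by rw [mul_smul, h2, g1]⟩
      inv_mem' := by
        rintro g (⟨g1, g2⟩ | ⟨g1, g2⟩)
        · exact Or.inl ⟨inv_smul_eq_iff.mpr g1.symm, inv_smul_eq_iff.mpr g2.symm⟩
        · exact Or.inr ⟨inv_smul_eq_iff.mpr g2.symm, inv_smul_eq_iff.mpr g1.symm⟩ }
  let R : SubMulAction H α :=
    { carrier := {x | x ≠ a ∧ x ≠ b}
      smul_mem' := by
        rintro ⟨g, hg⟩ x ⟨hxa, hxb⟩
        rcases hg with ⟨g1, g2⟩ | ⟨g1, g2⟩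
        · exact ⟨fun h => hxa (MulAction.injective g (h.trans g1.symm)),
            fun h => hxb (MulAction.injective g (h.trans g2.symm))⟩
        · exact ⟨fun h => hxb (MulAction.injective g (h.trans g2.symm)),
            fun h => hxa (MulAction.injective g (h.trans g1.symm))⟩ }
  letI : Fintype R := Fintype.ofFinite R
  have hRc : Fintype.card R = q := by
    have hset : Nat.card R = ({a, b} : Set α)ᶜ.ncard := by
      rw [← Nat.card_coe_set_eq]
      exact Nat.card_congr (Equiv.setCongr (by ext x; simp [R]; rfl))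
    rw [← Nat.card_eq_fintype_card, hset, Set.ncard_compl, Set.ncard_pair hab,
      Nat.card_eq_fintype_card, hα]
    omega
  haveI : FaithfulSMul H R := by
    refine ⟨fun {g h} hgh => ?_⟩
    have hd : ∀ x : α, x ≠ a → x ≠ b → ((h : G)⁻¹ * g) • x = x := fun x hxa hxb => by
      rw [mul_smul, inv_smul_eq_iff]
      exact congrArg Subtype.val (hgh ⟨x, hxa, hxb⟩)
    have hmem : (h : G)⁻¹ * g ∈ H := mul_mem (inv_mem h.2) g.2
    rcases hmem with ⟨d1, d2⟩ | ⟨d1, d2⟩
    · apply Subtype.ext
      have hd1 : (h : G)⁻¹ * g = 1 := eq_of_smul_eq_smul fun x : α => by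
        rw [one_smul]
        by_cases hxa : x = a
        · rw [hxa, d1]
        by_cases hxb : x = b
        · rw [hxb, d2]
        exact hd x hxa hxb
      exact (inv_mul_eq_one.mp hd1).symm
    · exfalso
      have hswap : (MulAction.toPerm ((h : G)⁻¹ * g) : Equiv.Perm α) = Equiv.swap a b := by
        ext x
        rw [MulAction.toPerm_apply]
        by_cases hxa : x = a
        · rw [hxa, d1, Equiv.swap_apply_left]
        by_cases hxb : x = b
        · rw [hxb, d2, Equiv.swap_apply_right]
        rw [hd x hxa hxb, Equiv.swap_apply_of_ne_of_ne hxa hxb]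
      have := hev ((h : G)⁻¹ * g)
      rw [hswap, Equiv.Perm.sign_swap hab] at this
      exact absurd this (by decide)
  set K : Subgroup H := (stabilizer G a ⊓ stabilizer G b).subgroupOf H with hK
  have hKmem : ∀ h : H, h ∈ K ↔ (h : G) • a = a ∧ (h : G) • b = b := fun h => Iff.rfl
  have hKn : K.Normal := by
    refine ⟨fun k hk g => ?_⟩
    rw [hKmem] at hk ⊢
    rcases g.2 with ⟨g1, g2⟩ | ⟨g1, g2⟩
    · simp only [Subgroup.coe_mul, Subgroup.coe_inv, mul_smul, inv_smul_eq_iff.mpr g1.symm,
        inv_smul_eq_iff.mpr g2.symm, hk.1, hk.2, g1, g2, and_self]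
    · simp only [Subgroup.coe_mul, Subgroup.coe_inv, mul_smul, inv_smul_eq_iff.mpr g1.symm,
        inv_smul_eq_iff.mpr g2.symm, hk.1, hk.2, g1, g2, and_self]
  have hRa : ∀ x : R, (x : α) ≠ a ∧ (x : α) ≠ b := fun x => x.2
  have hembed : ∀ x : α, x ≠ a → x ≠ b → ∃ f : Fin 3 ↪ α, f 0 = a ∧ f 1 = b ∧ f 2 = x := by
    intro x hxa hxb
    refine ⟨⟨![a, b, x], fun i j hij => ?_⟩, rfl, rfl, rfl⟩
    fin_cases i <;> fin_cases j <;> simp_all [eq_comm]
  haveI : IsPretransitive K R := ⟨fun x y => by
    obtain ⟨f, f0, f1, f2⟩ := hembed x (hRa x).1 (hRa x).2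
    obtain ⟨f', f0', f1', f2'⟩ := hembed y (hRa y).1 (hRa y).2
    obtain ⟨g, hg⟩ := exists_smul_eq G f f'
    have hga : g • a = a := by
      have := DFunLike.congr_fun hg 0
      rwa [Function.Embedding.smul_apply, f0, f0'] at this
    have hgb : g • b = b := by
      have := DFunLike.congr_fun hg 1
      rwa [Function.Embedding.smul_apply, f1, f1'] at this
    have hgx : g • (x : α) = y := by
      have := DFunLike.congr_fun hg 2
      rwa [Function.Embedding.smul_apply, f2, f2'] at this
    exact ⟨⟨⟨g, Or.inl ⟨hga, hgb⟩⟩, ⟨hga, hgb⟩⟩, Subtype.ext hgx⟩⟩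
  haveI : IsPretransitive H R := ⟨fun x y => by
    obtain ⟨k, hk⟩ := exists_smul_eq K x y
    exact ⟨k, hk⟩⟩
  -- order of G
  haveI hRne : Nonempty R := Fintype.card_pos_iff.mp (by omega)
  obtain ⟨c⟩ := id hRne
  set e' := Nat.card (stabilizer K c) with he'
  have hGcard : Nat.card G = p * ((p - 1) * (q * e')) := by
    have hK' : Nat.card K = q * e' := by
      have := (stabilizer K c).card_mul_index
      rw [index_stabilizer_of_transitive, Nat.card_eq_fintype_card (α := R), hRc] at this
      rw [← this, mul_comm]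
    have hKG : Nat.card K = Nat.card ↥(stabilizer G a ⊓ stabilizer G b : Subgroup G) :=
      Nat.card_congr (Subgroup.subgroupOfEquivOfLe
        (fun g hg => Or.inl ⟨hg.1, hg.2⟩ : stabilizer G a ⊓ stabilizer G b ≤ H)).toEquiv
    haveI : IsPretransitive (stabilizer G a) (SubMulAction.ofStabilizer G a) := ⟨fun x y => by
      obtain ⟨g, hga, hg⟩ := h2' (SubMulAction.neq_of_mem_ofStabilizer G a (x := x)).symm
        (SubMulAction.neq_of_mem_ofStabilizer G a (x := y)).symm
      exact ⟨⟨g, hga⟩, Subtype.ext hg⟩⟩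
    let b' : SubMulAction.ofStabilizer G a := ⟨b, hab.symm⟩
    let E : stabilizer (stabilizer G a) b' ≃ (stabilizer G a ⊓ stabilizer G b : Subgroup G) :=
      { toFun := fun d => ⟨((d : stabilizer G a) : G), (d : stabilizer G a).2,
          congrArg Subtype.val d.2⟩
        invFun := fun d => ⟨⟨(d : G), d.2.1⟩, Subtype.ext d.2.2⟩
        left_inv := fun d => rfl
        right_inv := fun d => rfl }
    have h1 := (stabilizer G a).card_mul_index
    have h4 := (stabilizer (stabilizer G a) b').card_mul_index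
    rw [index_stabilizer_of_transitive, SubMulAction.nat_card_ofStabilizer_eq,
      Nat.card_eq_fintype_card (α := α), hα, Nat.card_congr E, ← hKG, hK'] at h4
    rw [index_stabilizer_of_transitive, Nat.card_eq_fintype_card (α := α), hα, ← h4] at h1
    rw [← h1]; ring
  have hins : ¬ Group.IsSolvable K := by
    intro hs
    obtain ⟨Q⟩ : Nonempty (Sylow q K) := inferInstance
    have hQn := sylow_normal_of_solvable hRc Q hs
    obtain ⟨e, hcoord⟩ := exists_affine_coord hRc Q
    rw [Subgroup.normalizer_eq_top_iff.mpr hQn] at hcoord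
    have hest : Nat.card (stabilizer K (e 0)) = e' := by
      have h1 := (stabilizer K (e 0)).card_mul_index
      have h4 := (stabilizer K c).card_mul_index
      rw [index_stabilizer_of_transitive] at h1 h4
      exact Nat.eq_of_mul_eq_mul_right (Nat.card_pos : 0 < Nat.card R) (h1.trans h4.symm)
    choose A C hA0 hAC using fun k : K => hcoord k (Subgroup.mem_top k)
    have hC0 : ∀ k : stabilizer K (e 0), C k = 0 := fun k => by
      have h := hAC k 0
      rw [show (k : K) • e 0 = e 0 from k.2, e.apply_eq_iff_eq, mul_zero, zero_add] at h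
      exact h.symm
    let χ : stabilizer K (e 0) →* ZMod q :=
      { toFun := fun k => A k
        map_one' := by
          have h := hAC 1 1
          have hc0 := hC0 1
          rw [OneMemClass.coe_one] at hc0
          rw [one_smul, e.apply_eq_iff_eq, mul_one, hc0, add_zero] at h
          exact h.symm
        map_mul' := fun k l => by
          have h := hAC ((k : K) * l) 1
          have hkl := hC0 (k * l)
          rw [Subgroup.coe_mul] at hkl
          rw [mul_smul, hAC l, hAC k, hC0 k, hC0 l, hkl, e.apply_eq_iff_eq] at h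
          rw [Subgroup.coe_mul]
          linear_combination -h }
    have hdvd : e' ∣ q - 1 := by
      rw [← hest, ← ZMod.card_units q, ← Nat.card_eq_fintype_card]
      refine Subgroup.card_dvd_of_injective χ.toHomUnits fun k l h => ?_
      have h' : A k = A l := congrArg Units.val h
      refine Subtype.ext (eq_of_smul_eq_smul fun x : R => ?_)
      obtain ⟨j, rfl⟩ := e.surjective x
      rw [hAC, hAC, hC0, hC0, h']
    have hmod : (4 * e' + 1 : ℕ) = (0 : ZMod p) := by
      have h1 : Nat.card (Subgroup.normalizer ((P : Subgroup G) : Set G)) * Nat.card (Sylow p G) =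
          Nat.card G := by
        rw [Sylow.card_eq_index_normalizer P]
        exact Subgroup.card_mul_index _
      rw [hGcard] at h1
      have h4 : Nat.card (Sylow p G) = 2 * q * e' := by
        apply Nat.eq_of_mul_eq_mul_left (show 0 < p * (p - 1) from Nat.mul_pos hp.out.pos (by omega))
        calc p * (p - 1) * Nat.card (Sylow p G)
            = 2 * (Nat.card (Subgroup.normalizer ((P : Subgroup G) : Set G)) * Nat.card (Sylow p G)) := by
              rw [← hN]; ring
          _ = _ := by rw [h1]; ring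
      have h5 : (Nat.card (Sylow p G) : ZMod p) = ((1 : ℕ) : ZMod p) :=
        (ZMod.natCast_eq_natCast_iff _ _ _).mpr (card_sylow_modEq_one p G)
      have hq2 : (q : ZMod p) = -2 := by
        have hq' : ((q + 2 : ℕ) : ZMod p) = 0 := by rw [← hpq, ZMod.natCast_self]
        push_cast at hq'
        linear_combination hq'
      rw [h4] at h5
      push_cast at h5 ⊢
      rw [hq2] at h5
      linear_combination -h5
    rw [ZMod.natCast_eq_zero_iff] at hmod
    obtain ⟨j, hj⟩ := hmod
    have hle : e' ≤ q - 1 := Nat.le_of_dvd (by omega) hdvd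
    have hj4 : j < 4 := by
      by_contra h
      have : p * 4 ≤ p * j := Nat.mul_le_mul_left p (by omega)
      omega
    obtain ⟨i, hi⟩ := hdvd
    interval_cases j
    · omega
    · have h4 : e' * i + 2 = 4 * e' := by omega
      have he2 : e' ∣ 2 := by
        rw [← Nat.dvd_add_right (Dvd.intro i rfl : e' ∣ e' * i), h4]
        exact Dvd.intro_left 4 rfl
      have := Nat.le_of_dvd (by norm_num) he2
      have hp9 : p ≠ 9 := fun h => absurd (h ▸ hp.out) (by norm_num)
      omega
    · omega
    · rcases Nat.lt_or_ge i 2 with hi2 | hi2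
      · interval_cases i
        · omega
        · have hq9 : q ≠ 9 := fun h => absurd (h ▸ hq) (by norm_num)
          omega
      · have : e' * 2 ≤ e' * i := Nat.mul_le_mul_left _ hi2
        omega
  have h2K := two_pretransitive hRc hins
  have hinsH : ¬ Group.IsSolvable H := fun h => hins
    (Group.isSolvable_of_isSolvable_injective (f := K.subtype) K.subtype_injective)
  obtain ⟨Q⟩ : Nonempty (Sylow q H) := inferInstance
  have hQK : (Q : Subgroup H) ≤ K := by
    intro x hx
    have hxq : x ^ q = 1 := by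
      have : (⟨x, hx⟩ : (Q : Subgroup H)) ^ q = 1 := by
        have h := pow_card_eq_one' (x := (⟨x, hx⟩ : (Q : Subgroup H)))
        rwa [card_sylow hRc Q] at h
      exact congrArg Subtype.val this
    rw [hKmem]
    rcases x.2 with h | ⟨h1, h4⟩
    · exact h
    exfalso
    obtain ⟨k, hk⟩ := (Nat.odd_iff.mpr (Nat.odd_iff.mp (hq.odd_of_ne_two (by omega))) : Odd q)
    have hsq : ((x : G) * x) ∈ stabilizer G a := by
      show _ • a = a
      rw [mul_smul, h1, h4]
    have h5 : (x : G) ^ q • a = a := by
      have h6 := congrArg Subtype.val hxq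
      rw [SubgroupClass.coe_pow] at h6
      rw [h6, OneMemClass.coe_one, one_smul]
    rw [hk, pow_succ', pow_mul, mul_smul, pow_two, show ((x : G) * x) ^ k • a = a from pow_mem hsq k,
      h1] at h5
    exact hab h5.symm
  have heven : Even (Nat.card (Subgroup.normalizer ((Q : Subgroup H) : Set H))) := by
    by_contra hodd
    rw [Nat.not_even_iff_odd] at hodd
    obtain ⟨g, hga, hgb⟩ := h2' hab hab.symm
    have hle : Subgroup.normalizer ((Q : Subgroup H) : Set H) ≤ K := by
      intro x hx
      obtain ⟨k, hk⟩ := hodd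
      have h1 : (⟨x, hx⟩ : Subgroup.normalizer ((Q : Subgroup H) : Set H)) ^ (2 * k + 1) = 1 := by
        rw [← hk]; exact pow_card_eq_one'
      have h4 : (x : G) ^ (2 * k + 1) = 1 :=
        congrArg (fun z : Subgroup.normalizer ((Q : Subgroup H) : Set H) => ((z : H) : G)) h1
      rw [hKmem]
      rcases x.2 with h | ⟨h5, h6⟩
      · exact h
      exfalso
      have hsq : ((x : G) * x) ∈ stabilizer G a := by
        show _ • a = a
        rw [mul_smul, h5, h6]
      have h7 : (x : G) ^ (2 * k + 1) • a = a := by rw [h4, one_smul]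
      rw [pow_succ', pow_mul, pow_two, mul_smul, show ((x : G) * x) ^ k • a = a from pow_mem hsq k,
        h5] at h7
      exact hab h7.symm
    have htop : Subgroup.normalizer ((Q : Subgroup H) : Set H) ⊔ K = ⊤ :=
      Sylow.normalizer_sup_eq_top' Q hQK
    rw [sup_eq_right.mpr hle] at htop
    have hg : (⟨g, Or.inr ⟨hga, hgb⟩⟩ : H) ∈ K := htop ▸ Subgroup.mem_top _
    exact hab (((hKmem _).mp hg).1.symm.trans hga)
  have h3H := three_transitive_of_even hRc hinsH Q heven
  -- the index two subgroup is triply transitive as well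
  have h3K := three_transitive_of_index_two (T := R) (by rw [hRc]; exact hq.odd_of_ne_two (by omega))
    K hKn
    (fun g h hg => by
      have hg' : (g : G) • a = b ∧ (g : G) • b = a :=
        g.2.resolve_left fun h' => hg ((hKmem g).mpr h')
      rcases h.2 with h' | ⟨h1, h4⟩
      · exact Or.inl ((hKmem h).mpr h')
      · refine Or.inr ((hKmem _).mpr ⟨?_, ?_⟩)
        · show ((g : G)⁻¹ * h) • a = a
          rw [mul_smul, h1, inv_smul_eq_iff, hg'.1]
        · show ((g : G)⁻¹ * h) • b = b
          rw [mul_smul, h4, inv_smul_eq_iff, hg'.2])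
    h2K h3H
  refine ⟨fun X Y => ?_⟩
  have h01 : (0 : Fin 5) ≠ 1 := by decide
  obtain ⟨g, hg0, hg1⟩ := h2' (X.injective.ne h01) hab
  obtain ⟨g', hg0', hg1'⟩ := h2' (Y.injective.ne h01) hab
  have hin : ∀ (k : G) (Z : Fin 5 ↪ α), k • Z 0 = a → k • Z 1 = b → ∀ i : Fin 5, i ≠ 0 → i ≠ 1 →
      k • Z i ∈ R := by
    intro k Z h0 h1 i hi0 hi1
    exact ⟨fun h => hi0 (Z.injective (MulAction.injective k (h.trans h0.symm))),
      fun h => hi1 (Z.injective (MulAction.injective k (h.trans h1.symm)))⟩
  have hne : ∀ (k : G) (Z : Fin 5 ↪ α) (h0 : k • Z 0 = a) (h1 : k • Z 1 = b) (i j : Fin 5)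
      (hi : i ≠ 0 ∧ i ≠ 1) (hj : j ≠ 0 ∧ j ≠ 1), i ≠ j →
      (⟨k • Z i, hin k Z h0 h1 i hi.1 hi.2⟩ : R) ≠ ⟨k • Z j, hin k Z h0 h1 j hj.1 hj.2⟩ :=
    fun k Z h0 h1 i j hi hj hij h =>
      hij (Z.injective (MulAction.injective k (congrArg Subtype.val h)))
  obtain ⟨k, hk2, hk3, hk4⟩ := h3K _ _ _ _ _ _
    (hne g X hg0 hg1 2 3 (by decide) (by decide) (by decide))
    (hne g X hg0 hg1 2 4 (by decide) (by decide) (by decide))
    (hne g X hg0 hg1 3 4 (by decide) (by decide) (by decide))
    (hne g' Y hg0' hg1' 2 3 (by decide) (by decide) (by decide))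
    (hne g' Y hg0' hg1' 2 4 (by decide) (by decide) (by decide))
    (hne g' Y hg0' hg1' 3 4 (by decide) (by decide) (by decide))
  refine ⟨g'⁻¹ * ((k : H) : G) * g, ?_⟩
  ext i
  rw [Function.Embedding.smul_apply, mul_smul, mul_smul, inv_smul_eq_iff]
  fin_cases i
  · show ((k : H) : G) • g • X 0 = g' • Y 0
    rw [hg0, hg0']; exact k.2.1
  · show ((k : H) : G) • g • X 1 = g' • Y 1
    rw [hg1, hg1']; exact k.2.2
  · exact congrArg Subtype.val hk2
  · exact congrArg Subtype.val hk3
  · exact congrArg Subtype.val hk4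

end CfsgLib.HalfNormalizer
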